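import Cfsg.Agent.BinaryPSL.Facts
import Cfsg.Agent.SL2.Elements
import Cfsg.Agent.Dickson.MaxPoly

/-!
The class sizes of `PSL₂(q)`.
-/

set_option autoImplicit false

namespace CfsgLib.ClassSizesPSL2

open CfsgLib.SL2

variable {F : Type*} [Field F]

local notation "SLF" => Matrix.SpecialLinearGroup (Fin 2) F
local notation "PF" => Matrix.ProjectiveSpecialLinearGroup (Fin 2) F
local notation "q" => Fintype.card F

theorem centralizer_pmk_eq_map {g : SLF} (h : pmk g * pmk g ≠ 1 ∨ (2 : F) = 0) :
    Subgroup.centralizer ({pmk g} : Set PF) = (Subgroup.centralizer ({g} : Set SLF)).map pmk := by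
  ext y
  obtain ⟨k, rfl⟩ := pmk_surjective y
  constructor
  · intro hk
    refine ⟨k, ?_, rfl⟩
    have hc : Commute (pmk k) (pmk g) := Subgroup.mem_centralizer_singleton_iff.1 hk
    refine Subgroup.mem_centralizer_singleton_iff.2 ?_
    rcases h with h | h
    · exact (CfsgLib.BinaryPSL.commute_lift hc.symm h).symm
    · haveI : CharP F 2 := CharTwo.of_one_ne_zero_of_two_eq_zero one_ne_zero h
      have e : pmk (k * g) = pmk (g * k) := by rw [map_mul, map_mul]; exact hc
      rcases pmk_eq_iff.1 e with e | e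
      · exact e
      · rwa [← neg_one_mul (g * k), neg_one_eq_one, one_mul] at e
  · rintro ⟨z, hz, hzk⟩
    rw [← hzk]
    exact Subgroup.mem_centralizer_singleton_iff.2 (by
      rw [← map_mul, ← map_mul, Subgroup.mem_centralizer_singleton_iff.1 hz])

variable [Fintype F]

theorem odd_card (h2 : (2 : F) ≠ 0) : q % 2 = 1 := Nat.odd_iff.1 (two_ne_zero_iff_odd.1 h2)

theorem even_card (h2 : (2 : F) = 0) : Even q := by
  rw [← Nat.not_odd_iff_even]
  exact fun h => two_ne_zero_iff_odd.2 h h2

theorem pmk_injective_two (h2 : (2 : F) = 0) : Function.Injective (pmk : SLF → PF) := by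
  haveI : CharP F 2 := CharTwo.of_one_ne_zero_of_two_eq_zero one_ne_zero h2
  intro a b e
  rcases pmk_eq_iff.1 e with h | h
  · exact h
  · rw [h, ← neg_one_mul, neg_one_eq_one, one_mul]

theorem card_cen_two (h2 : (2 : F) = 0) (g : SLF) :
    Nat.card (Subgroup.centralizer ({pmk g} : Set PF)) = Nat.card (Subgroup.centralizer ({g} : Set SLF)) := by
  rw [centralizer_pmk_eq_map (Or.inr h2)]
  exact (Nat.card_congr (Subgroup.equivMapOfInjective _ _ (pmk_injective_two h2)).toEquiv).symm

theorem two_mul_card_cen (h2 : (2 : F) ≠ 0) {g : SLF} (h : pmk g * pmk g ≠ 1) :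
    2 * Nat.card (Subgroup.centralizer ({pmk g} : Set PF)) =
      Nat.card (Subgroup.centralizer ({g} : Set SLF)) := by
  rw [centralizer_pmk_eq_map (Or.inl h)]
  exact card_map_pmk h2 _ (Subgroup.mem_centralizer_singleton_iff.2 (by simp))

theorem card_cen_u {t : F} (ht : t ≠ 0) :
    Nat.card (Subgroup.centralizer ({u t} : Set SLF)) = Nat.card {a : F // a * a = 1} * q := by
  rw [u_eq_upperU]
  exact CfsgLib.Psl2Unipotent.card_centralizer_upperU ht

theorem centralizer_neg (g : SLF) :
    Subgroup.centralizer ({-g} : Set SLF) = Subgroup.centralizer ({g} : Set SLF) := by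
  ext k
  simp [Subgroup.mem_centralizer_singleton_iff, neg_inj]

/-- Centralisers of noncentral elements with trace `± 2`. -/
theorem card_cen_tr_four {g : SLF} (hg : g ∉ Subgroup.center SLF) (ht : tr g ^ 2 = 4) :
    Nat.card (Subgroup.centralizer ({g} : Set SLF)) = Nat.card {a : F // a * a = 1} * q := by
  have h : (tr g - 2) * (tr g + 2) = 0 := by linear_combination ht
  rcases mul_eq_zero.1 h with e | e
  · obtain ⟨s, hs, hc⟩ := exists_isConj_u (g := g) (fun h1 => hg (h1 ▸ one_mem _)) (sub_eq_zero.1 e)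
    rw [← card_centralizer_eq_of_isConj hc, card_cen_u hs]
  · obtain ⟨s, hs, hc⟩ := exists_isConj_u (g := -g) (fun h1 => hg (mem_center_iff'.2 (Or.inr (neg_eq_iff_eq_neg.1 h1))))
      (by rw [tr_neg]; linear_combination -e)
    rw [← centralizer_neg, ← card_centralizer_eq_of_isConj hc, card_cen_u hs]

theorem card_sq_eq_one (h2 : (2 : F) ≠ 0) : Nat.card {a : F // a * a = 1} = 2 := by
  haveI : Fact (ringChar F).Prime := ⟨CharP.char_is_prime F (ringChar F)⟩
  refine CfsgLib.Psl2Unipotent.card_sq_eq_one_of_ne (p := ringChar F) fun h => h2 ?_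
  haveI : CharP F 2 := ringChar.of_eq h
  exact CharTwo.two_eq_zero

theorem card_sq_eq_one' (h2 : (2 : F) = 0) : Nat.card {a : F // a * a = 1} = 1 := by
  haveI : CharP F 2 := CharTwo.of_one_ne_zero_of_two_eq_zero one_ne_zero h2
  exact CfsgLib.Psl2Unipotent.card_sq_eq_one_of_two

/-- The class size from the centraliser order. -/
theorem index_of_card {x : PF} {c i : ℕ} (hc : Nat.card (Subgroup.centralizer ({x} : Set PF)) = c)
    (hc0 : c ≠ 0) (h : c * i = Nat.card PF) : (Subgroup.centralizer ({x} : Set PF)).index = i := by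
  refine Nat.eq_of_mul_eq_mul_left (Nat.pos_of_ne_zero hc0) ?_
  rw [h, ← hc]
  exact Subgroup.card_mul_index _

theorem sq_sub_one : (q - 1) * (q + 1) = q ^ 2 - 1 := by
  rw [mul_comm, ← Nat.sq_sub_sq, one_pow]

theorem sizes_even (h2 : (2 : F) = 0) (h4 : 4 ≤ q) :
    Set.range (fun g : PF => (Subgroup.centralizer ({g} : Set PF)).index) =
      {1, q ^ 2 - 1, q * (q - 1), q * (q + 1)} := by
  have hG := CfsgLib.Dickson.card_psl_two (F := F) (even_card h2)
  have hs := card_sq_eq_one' h2
  have hq0 : q ≠ 0 := by omega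
  apply Set.Subset.antisymm
  · rintro _ ⟨x, rfl⟩
    obtain ⟨g, rfl⟩ := pmk_surjective x
    simp only [Set.mem_insert_iff, Set.mem_singleton_iff]
    by_cases hg : pmk g = 1
    · left
      rw [hg, Subgroup.index_eq_one, Subgroup.centralizer_eq_top_iff_subset]
      simp
    have hgc := CfsgLib.BinaryPSL.not_mem_center hg
    by_cases ht : tr g ^ 2 = 4
    · right; left
      exact index_of_card (by rw [card_cen_two h2, card_cen_tr_four hgc ht, hs, one_mul]) hq0 hG.symm
    by_cases hsp : IsSplitTrace (tr g)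
    · right; right; right
      exact index_of_card (by rw [card_cen_two h2, card_centralizer_split ht hsp]) (by omega)
        (by rw [hG, ← sq_sub_one]; ring)
    · right; right; left
      exact index_of_card (by rw [card_cen_two h2, card_centralizer_nonsplit hsp]) (by omega)
        (by rw [hG, ← sq_sub_one]; ring)
  · intro n hn
    simp only [Set.mem_insert_iff, Set.mem_singleton_iff] at hn
    rcases hn with rfl | rfl | rfl | rfl
    · refine ⟨1, ?_⟩
      show (Subgroup.centralizer ({1} : Set PF)).index = 1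
      rw [Subgroup.index_eq_one, Subgroup.centralizer_eq_top_iff_subset]
      simp
    · refine ⟨pmk (u 1), index_of_card ?_ hq0 hG.symm⟩
      rw [card_cen_two h2, card_cen_u one_ne_zero, hs, one_mul]
    · obtain ⟨g, hg, -, hc⟩ := exists_card_centralizer_eq_add_one (F := F)
      exact ⟨pmk g, index_of_card (by rw [card_cen_two h2, hc]) (by omega) (by rw [hG, ← sq_sub_one]; ring)⟩
    · obtain ⟨a, ha⟩ : ∃ a : Fˣ, a ≠ 1 := by
        haveI : Nontrivial Fˣ := by
          refine Finite.one_lt_card_iff_nontrivial.mp ?_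
          rw [Nat.card_units, Nat.card_eq_fintype_card]; omega
        exact exists_ne 1
      haveI : CharP F 2 := CharTwo.of_one_ne_zero_of_two_eq_zero one_ne_zero h2
      have ha2 : a * a ≠ 1 := fun e => ha (Units.ext (by
        have e' : (a : F) * a = 1 := by rw [← Units.val_mul, e, Units.val_one]
        exact CharTwo.sq_inj.1 (by rw [pow_two, e', Units.val_one, one_pow])))
      refine ⟨pmk (d a), index_of_card (c := q - 1) ?_ (by omega) (by rw [hG, ← sq_sub_one]; ring)⟩
      rw [card_cen_two h2, centralizer_d ha2, T_nat_card, Nat.card_eq_fintype_card]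

/-- `q` odd, `a = q - ε`, `h = (q + ε) / 2`. -/
structure OddData (n a h : ℕ) : Prop where
  h4 : 4 ∣ a
  hh : h % 2 = 1
  h7 : 7 ≤ n
  rel : (a + 1 = n ∧ 2 * h = n + 1) ∨ (a = n + 1 ∧ 2 * h + 1 = n)

theorem exists_oddData {n : ℕ} (h7 : 7 ≤ n) (hodd : n % 2 = 1) : ∃ a h, OddData n a h := by
  by_cases h4 : n % 4 = 1
  · exact ⟨n - 1, (n + 1) / 2, ⟨by omega, by omega, h7, Or.inl ⟨by omega, by omega⟩⟩⟩
  · exact ⟨n + 1, (n - 1) / 2, ⟨by omega, by omega, h7, Or.inr ⟨by omega, by omega⟩⟩⟩

theorem sizes_odd (h2 : (2 : F) ≠ 0) {a h : ℕ} (D : OddData q a h) :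
    Set.range (fun g : PF => (Subgroup.centralizer ({g} : Set PF)).index) =
      {1, h * a, q * a, q * (2 * h), q * h} := by
  obtain ⟨h4, hh, h7, rel⟩ := D
  have hG : Nat.card PF = q * (h * a) := by
    have h0 := CfsgLib.Dickson.psl_card_mul_two (F := F) (two_ne_zero_iff_odd.1 h2)
    rw [← sq_sub_one] at h0
    have : (q - 1) * (q + 1) = 2 * (h * a) := by
      rcases rel with ⟨e1, e2⟩ | ⟨e1, e2⟩
      · rw [← e2, show q - 1 = a by omega]; ring
      · rw [← e1, show q - 1 = 2 * h by omega]; ring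
    rw [this] at h0
    have : Nat.card PF * 2 = (q * (h * a)) * 2 := by rw [h0]; ring
    omega
  have hs := card_sq_eq_one h2
  have hI : ∀ x : PF, x * x = 1 → x ≠ 1 → Nat.card (Subgroup.centralizer ({x} : Set PF)) = a := by
    intro x hx hx1
    rcases CfsgLib.BinaryPSL.card_centralizer_involution h2 hx hx1 with ⟨e, e'⟩ | ⟨e, e'⟩ <;>
      rw [e'] <;> rcases rel with ⟨r1, r2⟩ | ⟨r1, r2⟩ <;> omega
  have hU : ∀ g : SLF, pmk g * pmk g ≠ 1 → Nat.card (Subgroup.centralizer ({g} : Set SLF)) = 2 * q →
      (Subgroup.centralizer ({pmk g} : Set PF)).index = h * a := by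
    intro g hg hc
    refine index_of_card (c := q) ?_ (by omega) hG.symm
    have := two_mul_card_cen h2 hg
    omega
  have hsplit : ∀ g : SLF, pmk g * pmk g ≠ 1 → Nat.card (Subgroup.centralizer ({g} : Set SLF)) = q - 1 →
      (Subgroup.centralizer ({pmk g} : Set PF)).index = q * (q + 1) := by
    intro g hg hc
    refine index_of_card (c := (q - 1) / 2) ?_ (by omega) ?_
    · have := two_mul_card_cen h2 hg
      omega
    · rw [hG]
      rcases rel with ⟨r1, r2⟩ | ⟨r1, r2⟩
      · rw [show q + 1 = 2 * h by omega, show (q - 1) / 2 = a / 2 by omega]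
        obtain ⟨k, rfl⟩ := h4
        rw [show 4 * k / 2 = 2 * k by omega]; ring
      · rw [show q + 1 = a by omega, show (q - 1) / 2 = h by omega]; ring
  have hnon : ∀ g : SLF, pmk g * pmk g ≠ 1 → Nat.card (Subgroup.centralizer ({g} : Set SLF)) = q + 1 →
      (Subgroup.centralizer ({pmk g} : Set PF)).index = q * (q - 1) := by
    intro g hg hc
    refine index_of_card (c := (q + 1) / 2) ?_ (by omega) ?_
    · have := two_mul_card_cen h2 hg
      omega
    · rw [hG]
      rcases rel with ⟨r1, r2⟩ | ⟨r1, r2⟩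
      · rw [show q - 1 = a by omega, show (q + 1) / 2 = h by omega]; ring
      · rw [show q - 1 = 2 * h by omega, show (q + 1) / 2 = a / 2 by omega]
        obtain ⟨k, rfl⟩ := h4
        rw [show 4 * k / 2 = 2 * k by omega]; ring
  have hsq : ∀ g : SLF, g * g ≠ 1 → g * g ≠ -1 → pmk g * pmk g ≠ 1 := fun g e1 e2 e => by
    rw [← map_mul] at e
    exact (pmk_eq_one_iff.1 e).elim e1 e2
  obtain ⟨b, hb, hbc⟩ : ∃ b : SLF, pmk b * pmk b ≠ 1 ∧ Nat.card (Subgroup.centralizer ({b} : Set SLF)) = q - 1 := by
    obtain ⟨c, hc⟩ := IsCyclic.exists_ofOrder_eq_natCard (α := Fˣ)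
    rw [Nat.card_units, Nat.card_eq_fintype_card] at hc
    have hpow : ∀ k, 0 < k → k < 5 → c ^ k ≠ 1 := fun k hk hk' e => by
      have := Nat.le_of_dvd hk (orderOf_dvd_of_pow_eq_one e)
      omega
    have hc2 : c * c ≠ 1 := by rw [← pow_two]; exact hpow 2 (by norm_num) (by norm_num)
    refine ⟨d c, ?_, by rw [centralizer_d hc2, T_nat_card, Nat.card_eq_fintype_card]⟩
    refine hsq _ (fun e => ?_) fun e => ?_
    · rw [← map_mul] at e
      have e0 := congrArg (fun g : SLF => g 0 0) e
      exact hc2 (Units.ext (by simpa using e0))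
    · rw [← map_mul, ← d_neg_one] at e
      have e0 := congrArg (fun g : SLF => g 0 0) e
      have e1 : c * c = -1 := Units.ext (by simpa using e0)
      exact hpow 4 (by norm_num) (by norm_num) (by rw [show c ^ 4 = (c * c) * (c * c) by rw [pow_succ, pow_succ, pow_succ, pow_one, ← mul_assoc], e1]; simp)
  obtain ⟨b', hb', hbc'⟩ : ∃ b : SLF, pmk b * pmk b ≠ 1 ∧ Nat.card (Subgroup.centralizer ({b} : Set SLF)) = q + 1 := by
    obtain ⟨g, hg, hcyc, hc⟩ := exists_card_centralizer_eq_add_one (F := F)
    obtain ⟨c, hcc⟩ := hcyc.exists_ofOrder_eq_natCard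
    rw [hc, ← Subgroup.orderOf_coe] at hcc
    have hpow : ∀ k, 0 < k → k < 5 → (c : SLF) ^ k ≠ 1 := fun k hk hk' e => by
      have := Nat.le_of_dvd hk (orderOf_dvd_of_pow_eq_one e)
      omega
    have hgc : g ∉ Subgroup.center SLF := not_mem_center_of_tr_sq_ne (sq_ne_four_of_not_isSplitTrace hg)
    have hcz : (c : SLF) ∉ Subgroup.center SLF := fun e => by
      have := orderOf_dvd_two_of_mem_center e
      have := Nat.le_of_dvd two_pos this
      omega
    refine ⟨c, hsq _ (by rw [← pow_two]; exact hpow 2 (by norm_num) (by norm_num)) (fun e => ?_), ?_⟩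
    · exact hpow 4 (by norm_num) (by norm_num)
        (by rw [show (c : SLF) ^ 4 = (c * c : SLF) * (c * c) by rw [pow_succ, pow_succ, pow_succ, pow_one, ← mul_assoc], e]; simp)
    · rw [centralizer_eq_of_mem hgc c.2 hcz, hc]
  apply Set.Subset.antisymm
  · rintro _ ⟨x, rfl⟩
    obtain ⟨g, rfl⟩ := pmk_surjective x
    simp only [Set.mem_insert_iff, Set.mem_singleton_iff]
    by_cases hg : pmk g = 1
    · left
      rw [hg, Subgroup.index_eq_one, Subgroup.centralizer_eq_top_iff_subset]
      simp
    by_cases hg2 : pmk g * pmk g = 1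
    · right; right; right; right
      exact index_of_card (hI _ hg2 hg) (by omega) (by rw [hG]; ring)
    have hgc := CfsgLib.BinaryPSL.not_mem_center hg
    by_cases ht : tr g ^ 2 = 4
    · right; left
      exact hU g hg2 (by rw [card_cen_tr_four hgc ht, hs])
    by_cases hsp : IsSplitTrace (tr g)
    · have e := hsplit g hg2 (card_centralizer_split ht hsp)
      rcases rel with ⟨r1, r2⟩ | ⟨r1, r2⟩
      · right; right; right; left
        rw [e, show q + 1 = 2 * h by omega]
      · right; right; left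
        rw [e, show q + 1 = a by omega]
    · have e := hnon g hg2 (card_centralizer_nonsplit hsp)
      rcases rel with ⟨r1, r2⟩ | ⟨r1, r2⟩
      · right; right; left
        rw [e, show q - 1 = a by omega]
      · right; right; right; left
        rw [e, show q - 1 = 2 * h by omega]
  · intro n hn
    simp only [Set.mem_insert_iff, Set.mem_singleton_iff] at hn
    rcases hn with rfl | rfl | rfl | rfl | rfl
    · refine ⟨1, ?_⟩
      show (Subgroup.centralizer ({1} : Set PF)).index = 1
      rw [Subgroup.index_eq_one, Subgroup.centralizer_eq_top_iff_subset]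
      simp
    · refine ⟨pmk (u 1), hU _ (hsq _ (fun e => ?_) fun e => ?_) (by rw [card_cen_u one_ne_zero, hs])⟩
      · rw [← u_add, u_eq_one_iff] at e
        exact h2 (by linear_combination e)
      · rw [← u_add] at e
        have := congrArg (fun g : SLF => g 0 0) e
        simp at this
        exact h2 (by linear_combination this)
    · rcases rel with ⟨r1, r2⟩ | ⟨r1, r2⟩
      · exact ⟨pmk b', (hnon b' hb' hbc').trans (by rw [show q - 1 = a by omega])⟩
      · exact ⟨pmk b, (hsplit b hb hbc).trans (by rw [show q + 1 = a by omega])⟩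
    · rcases rel with ⟨r1, r2⟩ | ⟨r1, r2⟩
      · exact ⟨pmk b, (hsplit b hb hbc).trans (by rw [show q + 1 = 2 * h by omega])⟩
      · exact ⟨pmk b', (hnon b' hb' hbc').trans (by rw [show q - 1 = 2 * h by omega])⟩
    · have hw2 : orderOf (pmk (w : SLF)) = 2 := (orderOf_pmk_eq_two_iff h2).2 tr_w
      refine ⟨pmk w, index_of_card (hI _ ?_ fun e => ?_) (by omega) (by rw [hG]; ring)⟩
      · have := pow_orderOf_eq_one (pmk (w : SLF))
        rwa [hw2, pow_two] at this
      · rw [e, orderOf_one] at hw2; omega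

end CfsgLib.ClassSizesPSL2
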