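import Cfsg.Agent.ClassSizesPSL2.Recognise
import Cfsg.Agent.ClassSizesPSL2.Model

/-!
A group with the class sizes of `PSL₂(q)` satisfies the abstract hypotheses, and its centre quotient
is `PSL₂(q)`.
-/

set_option autoImplicit false

namespace CfsgLib.ClassSizesPSL2

open CfsgLib.TwoSizes (cen mem_cen IsPElt cen_mul_le center_le_cen)
open CfsgLib.CoprimeLargest

variable {G : Type*} [Group G] [Finite G] {p n : ℕ}

theorem exists_prime_dvd_not_dvd {a b : ℕ} (ha : 1 < a) (hab : a.Coprime b) :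
    ∃ r, r.Prime ∧ r ∣ a ∧ ¬ r ∣ b := by
  obtain ⟨r, hr, hra⟩ := Nat.exists_prime_and_dvd ha.ne'
  exact ⟨r, hr, hra, fun h => hr.ne_one (Nat.eq_one_of_dvd_coprimes hab hra h)⟩

theorem coprime_q_succ (n : ℕ) : n.Coprime (n + 1) := Nat.coprime_self_add_right.2 (Nat.coprime_one_right n)

theorem sizes_of_even (hp : p = 2) {m : ℕ} (hm : m ≠ 0) (hn : n = p ^ m) (h4 : 4 ≤ n)
    (h : Set.range (fun g : G => idx g) = {1, n ^ 2 - 1, n * (n - 1), n * (n + 1)}) :
    Sizes G p n (n ^ 2 - 1) (n * (n - 1)) {n * (n - 1), n * (n + 1)} := by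
  subst hp
  have hn2 : 2 ∣ n := hn ▸ dvd_pow_self 2 hm
  have hU : (n - 1) * (n + 1) = n ^ 2 - 1 := by rw [mul_comm, ← Nat.sq_sub_sq, one_pow]
  have hodd1 : ¬ 2 ∣ n - 1 := by omega
  have hodd2 : ¬ 2 ∣ n + 1 := by omega
  have hcop : (n - 1).Coprime (n + 1) := by
    refine Nat.coprime_of_dvd fun r hr h1 h2 => ?_
    have : r ∣ 2 := by
      have h3 := Nat.dvd_sub h2 h1
      rwa [show n + 1 - (n - 1) = 2 by omega] at h3
    exact hodd1 ((Nat.prime_dvd_prime_iff_eq hr Nat.prime_two).1 this ▸ h1)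
  have hcopn : n.Coprime (n ^ 2 - 1) := by
    refine Nat.coprime_of_dvd fun r hr h1 h2 => hr.ne_one ?_
    have h3 := Nat.dvd_sub (dvd_pow h1 two_ne_zero) h2
    rw [show n ^ 2 - (n ^ 2 - 1) = 1 by have : 1 ≤ n ^ 2 := Nat.one_le_pow _ _ (by omega); omega] at h3
    exact Nat.dvd_one.1 h3
  have hrange : ∀ k, k ∈ ({1, n ^ 2 - 1, n * (n - 1), n * (n + 1)} : Set ℕ) ↔ ∃ g : G, idx g = k := by
    intro k; rw [← h]; exact Iff.rfl
  have hlt : n * (n - 1) < n * (n + 1) := Nat.mul_lt_mul_of_pos_left (by omega) (by omega)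
  have hndiv1 : ¬ n * (n - 1) ∣ n * (n + 1) := fun e => by
    have := Nat.eq_one_of_dvd_coprimes hcop dvd_rfl (Nat.dvd_of_mul_dvd_mul_left (by omega) e)
    omega
  have hndiv2 : ¬ n * (n + 1) ∣ n * (n - 1) := fun e => by
    have := Nat.le_of_dvd (Nat.mul_pos (by omega) (by omega)) e
    omega
  refine ⟨Nat.prime_two, ⟨m, hm, hn⟩, ⟨1, Or.inl rfl, ?_⟩, h4, ?_, ?_, ?_, ?_, ?_, ?_, ?_, ?_, ?_, ?_, ?_⟩
  · rw [one_mul, Nat.sub_add_cancel (Nat.one_le_pow _ _ (by omega))]
  · rw [← hU]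
    exact fun e => (Nat.prime_two.dvd_mul.1 e).elim hodd1 hodd2
  · have : 16 ≤ n ^ 2 := by nlinarith
    omega
  · intro g
    have := (hrange (idx g)).2 ⟨g, rfl⟩
    simpa [Set.mem_insert_iff] using this
  · exact (hrange _).1 (by simp)
  · intro τ hτ
    exact (hrange _).1 (by rcases hτ with rfl | rfl <;> simp)
  · rintro τ (rfl | rfl) <;> exact dvd_mul_of_dvd_left hn2 _
  · rintro τ (rfl | rfl) e
    · have := Nat.le_of_dvd (by omega) (hcopn.symm.dvd_of_dvd_mul_left e)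
      have : 4 * n ≤ n ^ 2 := by nlinarith
      omega
    · have := Nat.le_of_dvd (by omega) (hcopn.symm.dvd_of_dvd_mul_left e)
      have : 4 * n ≤ n ^ 2 := by nlinarith
      omega
  · rintro τ (rfl | rfl) σ (rfl | rfl) e
    · exact Or.inl rfl
    · exact absurd e hndiv1
    · exact absurd e hndiv2
    · exact Or.inl rfl
  · rintro τ (rfl | rfl)
    · obtain ⟨r, hr, h1, h2⟩ := exists_prime_dvd_not_dvd (a := n + 1) (b := n * (n - 1)) (by omega)
        (Nat.Coprime.mul_right (coprime_q_succ n).symm hcop.symm)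
      exact ⟨r, 1, hr, fun e => hodd2 (e ▸ h1), by rwa [pow_one],
        Or.inl (by rw [pow_one, ← hU]; exact dvd_mul_of_dvd_right h1 _)⟩
    · obtain ⟨r, hr, h1, h2⟩ := exists_prime_dvd_not_dvd (a := n - 1) (b := n * (n + 1)) (by omega)
        (Nat.Coprime.mul_right (by
          have := coprime_q_succ (n - 1); rwa [show n - 1 + 1 = n by omega] at this) hcop)
      exact ⟨r, 1, hr, fun e => hodd1 (e ▸ h1), by rwa [pow_one],
        Or.inl (by rw [pow_one, ← hU]; exact dvd_mul_of_dvd_left h1 _)⟩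
  · intro r hr hr2
    have hrn : ¬ r ∣ n := fun e => hr2 ((Nat.prime_dvd_prime_iff_eq hr Nat.prime_two).1 (hr.dvd_of_dvd_pow (hn ▸ e)))
    by_cases hA : r ∣ n - 1
    · refine ⟨_, Or.inr rfl, fun e => (hr.dvd_mul.1 e).elim hrn fun e' =>
        hr.ne_one (Nat.eq_one_of_dvd_coprimes hcop hA e'), ?_⟩
      rintro σ (rfl | rfl) e
      · exact absurd e hndiv1
      · rfl
    · refine ⟨_, Or.inl rfl, fun e => (hr.dvd_mul.1 e).elim hrn hA, ?_⟩
      rintro σ (rfl | rfl) e
      · rfl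
      · exact absurd e hndiv2
  · refine ⟨Or.inl rfl, ?_, n - 1, rfl, hodd1⟩
    rintro σ (rfl | rfl) e
    · rfl
    · exact absurd e hndiv2

section odd

variable {a h : ℕ}

theorem OddData.cop (D : OddData n a h) : a.Coprime h := by
  obtain ⟨h4, hh, h7, rel⟩ := D
  refine Nat.coprime_of_dvd fun r hr h1 h2 => ?_
  have : r ∣ 2 := by
    rcases rel with ⟨e1, e2⟩ | ⟨e1, e2⟩
    · have h3 := Nat.dvd_sub (h2.mul_left 2) h1
      rwa [show 2 * h - a = 2 by omega] at h3
    · have h3 := Nat.dvd_sub h1 (h2.mul_left 2)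
      rwa [show a - 2 * h = 2 by omega] at h3
  have := (Nat.prime_dvd_prime_iff_eq hr Nat.prime_two).1 this
  subst this
  omega

theorem OddData.bounds (D : OddData n a h) : 3 ≤ h ∧ 8 ≤ a ∧ h < n ∧ n % 2 = 1 := by
  obtain ⟨h4, hh, h7, rel⟩ := D
  omega

theorem OddData.two_U (D : OddData n a h) : 2 * (h * a) + 1 = n ^ 2 := by
  rcases D.rel with ⟨e1, e2⟩ | ⟨e1, e2⟩
  · rw [← e1, show 2 * (h * a) = (2 * h) * a by ring, e2, ← e1]; ring
  · rw [← e2, e1, ← e2]; ring

theorem OddData.cop_n (D : OddData n a h) : n.Coprime (h * a) := by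
  refine Nat.coprime_of_dvd fun r hr h1 h2 => hr.ne_one ?_
  have h3 := Nat.dvd_sub (dvd_pow h1 two_ne_zero) (h2.mul_left 2)
  rw [show n ^ 2 - 2 * (h * a) = 1 by have := D.two_U; omega] at h3
  exact Nat.dvd_one.1 h3

theorem OddData.ndvd (D : OddData n a h) :
    ¬ n * a ∣ n * (2 * h) ∧ ¬ n * a ∣ n * h ∧ ¬ n * (2 * h) ∣ n * a ∧ ¬ n * h ∣ n * a ∧
      ¬ n * (2 * h) ∣ n * h := by
  obtain ⟨b1, b2, b3, b4⟩ := D.bounds
  have h4 := D.h4
  have hh := D.hh
  have hc := D.cop
  have hn : 0 < n := by omega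
  have hndvd : ¬ h ∣ a := fun e => by have := Nat.eq_one_of_dvd_coprimes hc e dvd_rfl; omega
  refine ⟨fun e => ?_, fun e => ?_, fun e => ?_, fun e => ?_, fun e => ?_⟩ <;>
    replace e := Nat.dvd_of_mul_dvd_mul_left hn e
  · have := h4.trans e; omega
  · have := h4.trans e; omega
  · exact hndvd ((dvd_mul_left h 2).trans e)
  · exact hndvd e
  · have := Nat.le_of_dvd (by omega) e; omega

theorem sizes_of_odd (hp : p.Prime) (hp2 : p ≠ 2) {m : ℕ} (hm : m ≠ 0) (hn : n = p ^ m)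
    (D : OddData n a h)
    (hr : Set.range (fun g : G => idx g) = {1, h * a, n * a, n * (2 * h), n * h}) :
    Sizes G p n (h * a) (n * a) {n * a, n * (2 * h), n * h} := by
  obtain ⟨b1, b2, b3, b4⟩ := D.bounds
  obtain ⟨x1, x2, x3, x4, x5⟩ := D.ndvd
  have hc := D.cop
  have hcn := D.cop_n
  have hpn : p ∣ n := hn ▸ dvd_pow_self p hm
  have hrange : ∀ k, k ∈ ({1, h * a, n * a, n * (2 * h), n * h} : Set ℕ) ↔ ∃ g : G, idx g = k := by
    intro k; rw [← hr]; exact Iff.rfl
  have h2lt : n * h < n * (2 * h) := Nat.mul_lt_mul_of_pos_left (by omega) (by omega)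
  have hpha : ¬ p ∣ h * a := fun e => hp.ne_one (Nat.eq_one_of_dvd_coprimes hcn hpn e)
  have hUle : ∀ k, 0 < k → k < h * a → ¬ h * a ∣ n * k := fun k hk hlt e => by
    have := Nat.le_of_dvd hk (hcn.symm.dvd_of_dvd_mul_left e)
    omega
  have h3a : 3 * a ≤ h * a := Nat.mul_le_mul_right a b1
  have h8h : h * 8 ≤ h * a := Nat.mul_le_mul_left h b2
  refine ⟨hp, ⟨m, hm, hn⟩, ⟨2, Or.inr ⟨rfl, hp2⟩, D.two_U⟩, by have := D.h7; omega, hpha,
    by omega, ?_, ?_, ?_, ?_, ?_, ?_, ?_, ?_, ?_⟩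
  · intro g
    have := (hrange (idx g)).2 ⟨g, rfl⟩
    simpa [Set.mem_insert_iff] using this
  · exact (hrange _).1 (by simp)
  · intro τ hτ
    exact (hrange _).1 (by rcases hτ with rfl | rfl | rfl <;> simp)
  · rintro τ (rfl | rfl | rfl) <;> exact dvd_mul_of_dvd_left hpn _
  · rintro τ (rfl | rfl | rfl) <;> refine hUle _ (by omega) (by omega)
  · rintro τ (rfl | rfl | rfl) σ (rfl | rfl | rfl) e
    · exact Or.inl rfl
    · exact absurd e x1
    · exact absurd e x2
    · exact absurd e x3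
    · exact Or.inl rfl
    · exact absurd e x5
    · exact absurd e x4
    · exact Or.inr ⟨by ring, hp2⟩
    · exact Or.inl rfl
  · have h22 : 2 ^ 2 ∣ h * a := dvd_mul_of_dvd_right D.h4 h
    have hcop4 : Nat.Coprime (2 ^ 2) n :=
      ((Nat.prime_two.coprime_iff_not_dvd).2 (by omega)).pow_left 2
    have hh := D.hh
    rintro τ (rfl | rfl | rfl)
    · obtain ⟨r, hr, h1, h2⟩ := exists_prime_dvd_not_dvd (a := h) (b := n * a) (by omega)
        (Nat.Coprime.mul_right (hcn.coprime_dvd_right (dvd_mul_right h a)).symm hc.symm)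
      refine ⟨r, 1, hr, ?_, by rwa [pow_one], Or.inl (by rw [pow_one]; exact dvd_mul_of_dvd_left h1 _)⟩
      rintro rfl
      exact hpha (dvd_mul_of_dvd_left h1 _)
    · refine ⟨2, 2, Nat.prime_two, Ne.symm hp2, fun e => ?_, Or.inl h22⟩
      have := hcop4.dvd_of_dvd_mul_left e
      omega
    · refine ⟨2, 2, Nat.prime_two, Ne.symm hp2, fun e => ?_, Or.inl h22⟩
      have := hcop4.dvd_of_dvd_mul_left e
      omega
  · intro r hr' hrp
    have hrn : ¬ r ∣ n := fun e => hrp ((Nat.prime_dvd_prime_iff_eq hr' hp).1 (hr'.dvd_of_dvd_pow (hn ▸ e)))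
    by_cases hA : r ∣ a
    · refine ⟨_, Or.inr (Or.inr rfl), fun e => (hr'.dvd_mul.1 e).elim hrn fun e' =>
        hr'.ne_one (Nat.eq_one_of_dvd_coprimes hc hA e'), ?_⟩
      rintro σ (rfl | rfl | rfl) e
      · exact absurd e x2
      · exact absurd e x5
      · rfl
    · refine ⟨_, Or.inl rfl, fun e => (hr'.dvd_mul.1 e).elim hrn hA, ?_⟩
      rintro σ (rfl | rfl | rfl) e
      · rfl
      · exact absurd e x3
      · exact absurd e x4
  · refine ⟨Or.inl rfl, ?_, a, rfl, fun e => hpha (dvd_mul_of_dvd_right e h)⟩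
    rintro σ (rfl | rfl | rfl) e
    · rfl
    · exact absurd e x3
    · exact absurd e x4

end odd

namespace Sizes

variable {q U A : ℕ} {T : Set ℕ} (H : Sizes G p q U A T)
include H

/-- A noncentral element of order a power of a prime `r ≠ p` has class size in `T`, and `r` times it
divides `U q`. -/
theorem mem_T_of_pPrime {r : ℕ} (hr : r.Prime) (hrp : r ≠ p) {w : G} (hw : IsPElt r w)
    (hwZ : w ∉ Subgroup.center G) : idx w ∈ T ∧ r * idx w ∣ U * q := by
  refine ⟨?_, ?_⟩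
  · rcases H.mem w with e | e | e
    · exact absurd e (H.idx_ne_one hwZ)
    · exfalso
      obtain ⟨m, hm, hmq⟩ := H.hq
      haveI := Fact.mk H.hp
      obtain ⟨y, hy, hyp, hyZ⟩ := exists_noncentral_commuting (k := 1) H.hp (y := w)
        (by rw [pow_one, e]; exact H.hU)
        (by rw [pow_one, H.index_center, hmq]; exact dvd_mul_of_dvd_right (dvd_pow_self p hm) U)
      exact hwZ (H.central_of_commute hyp hyZ hr hrp hw (mem_cen.2 (mem_cen.1 hy).symm))
    · exact e
  · have h1 := (cen w).card_mul_index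
    obtain ⟨c, hc⟩ := Subgroup.card_dvd_of_le (center_le_cen w)
    change _ * idx w = _ at h1
    rw [hc, ← (Subgroup.center G).card_mul_index, mul_assoc, H.index_center] at h1
    have h2 : c * idx w = U * q := Nat.eq_of_mul_eq_mul_left Nat.card_pos h1
    have hrc : r ∣ c := by
      haveI := Fact.mk hr
      by_contra hrc
      have hwc : (⟨w, mem_cen.2 rfl⟩ : cen w) ^ c ∈ (Subgroup.center G).subgroupOf (cen w) := by
        have h3 := ((Subgroup.center G).subgroupOf (cen w)).card_mul_index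
        rw [Nat.card_congr (Subgroup.subgroupOfEquivOfLe (center_le_cen w)).toEquiv, hc] at h3
        rw [← Nat.eq_of_mul_eq_mul_left Nat.card_pos h3]
        exact Subgroup.pow_index_mem _ _
      rw [Subgroup.mem_subgroupOf, Subgroup.coe_pow] at hwc
      obtain ⟨k, hk⟩ := hw
      obtain ⟨e, he⟩ := exists_pow_eq_self_of_coprime (x := w)
        (((hr.coprime_iff_not_dvd.2 hrc).pow_left k).symm.of_dvd_right (orderOf_dvd_of_pow_eq_one hk))
      exact hwZ (he ▸ pow_mem hwc e)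
    rw [← h2]
    exact Nat.mul_dvd_mul_right hrc _

theorem exists_lift_prime {r : ℕ} (hr : r.Prime) {x : G ⧸ Subgroup.center G} (hx : orderOf x = r) :
    ∃ y : G, IsPElt r y ∧ y ∉ Subgroup.center G ∧ (y : G ⧸ Subgroup.center G) = x := by
  obtain ⟨g, rfl⟩ := QuotientGroup.mk_surjective x
  set n := orderOf g
  have hn : n ≠ 0 := (orderOf_pos g).ne'
  set k := ordCompl[r] n
  obtain ⟨e, he⟩ := exists_pow_eq_self_of_coprime (x := (g : G ⧸ Subgroup.center G))
    (n := k) (by rw [hx]; exact (Nat.coprime_ordCompl hr hn).symm)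
  refine ⟨(g ^ k) ^ e, ⟨n.factorization r, ?_⟩, fun hZ => hr.ne_one ?_, by push_cast; exact he⟩
  · rw [← pow_mul, ← pow_mul, show k * (e * r ^ n.factorization r) =
        (r ^ n.factorization r * k) * e by ring, Nat.ordProj_mul_ordCompl_eq_self, pow_mul,
      pow_orderOf_eq_one, one_pow]
  · rw [← hx, orderOf_eq_one_iff, ← he, ← QuotientGroup.mk_pow, ← QuotientGroup.mk_pow]
    exact (QuotientGroup.eq_one_iff _).2 hZ

end Sizes

variable {a h : ℕ}

theorem no_mixed (H : Sizes G p n (h * a) (n * a) {n * a, n * (2 * h), n * h}) (D : OddData n a h)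
    {r : ℕ} (hr : r.Prime) (hrh : r ∣ h) {t w : G ⧸ Subgroup.center G} (ht : orderOf t = 2)
    (hw : orderOf w = r) (hc : Commute t w) : False := by
  obtain ⟨b1, b2, b3, b4⟩ := D.bounds
  obtain ⟨x1, x2, x3, x4, x5⟩ := D.ndvd
  obtain ⟨m, hm, hmn⟩ := H.hq
  have hh := D.hh
  have h4 := D.h4
  have hr2 : r ≠ 2 := by rintro rfl; omega
  have hrp : r ≠ p := fun e => H.hU (e ▸ dvd_mul_of_dvd_left hrh a)
  have hp2 : (2 : ℕ) ≠ p := fun e => H.hU (e ▸ dvd_mul_of_dvd_right ((by norm_num : 2 ∣ 4).trans h4) h)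
  obtain ⟨t', ht', htZ, htm⟩ := H.exists_lift_prime Nat.prime_two ht
  obtain ⟨w', hw', hwZ, hwm⟩ := H.exists_lift_prime hr hw
  have hcop := coprime_pElt Nat.prime_two hr (Ne.symm hr2) ht' hw'
  set z := t' * w' * t'⁻¹ * w'⁻¹ with hz
  have hzc : z ∈ Subgroup.center G := by
    rw [← QuotientGroup.eq_one_iff, hz]
    simp only [QuotientGroup.mk_mul, QuotientGroup.mk_inv, htm, hwm]
    rw [hc.eq]; group
  have hzall : ∀ g : G, Commute g z := fun g => Subgroup.mem_center_iff.1 hzc g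
  have hcomm : Commute t' w' := by
    have e1 : t' * w' * t'⁻¹ = z * w' := by rw [hz]; group
    have e2 : w' * t' * w'⁻¹ = z⁻¹ * t' := by rw [hz]; group
    have z1 : orderOf z ∣ orderOf w' := by
      refine orderOf_dvd_of_pow_eq_one ?_
      have h1 : (t' * w' * t'⁻¹) ^ orderOf w' = 1 := by rw [conj_pow, pow_orderOf_eq_one]; group
      rwa [e1, (hzall w').symm.mul_pow, pow_orderOf_eq_one, mul_one] at h1
    have z2 : orderOf z ∣ orderOf t' := by
      rw [← orderOf_inv]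
      refine orderOf_dvd_of_pow_eq_one ?_
      have h1 : (w' * t' * w'⁻¹) ^ orderOf t' = 1 := by rw [conj_pow, pow_orderOf_eq_one]; group
      rwa [e2, (hzall t').symm.inv_left.mul_pow, pow_orderOf_eq_one, mul_one] at h1
    have hz1 : z = 1 := orderOf_eq_one_iff.1 (Nat.eq_one_of_dvd_coprimes hcop z2 z1)
    rw [hz1, one_mul, mul_inv_eq_iff_eq_mul] at e1
    exact e1
  obtain ⟨htT, htd⟩ := H.mem_T_of_pPrime Nat.prime_two hp2 ht' htZ
  obtain ⟨hwT, hwd⟩ := H.mem_T_of_pPrime hr hrp hw' hwZ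
  have hn0 : 0 < n := by omega
  have hra : ¬ r ∣ a := fun e => hr.ne_one (Nat.eq_one_of_dvd_coprimes D.cop e hrh)
  have hwA : idx w' = n * a := by
    rcases hwT with e | e | e
    · exact e
    · exfalso
      rw [e, show r * (n * (2 * h)) = (n * h) * (r * 2) by ring, show h * a * n = (n * h) * a by ring] at hwd
      exact hra ((dvd_mul_right r 2).trans (Nat.dvd_of_mul_dvd_mul_left (Nat.mul_pos hn0 (by omega)) hwd))
    · exfalso
      rw [e, show r * (n * h) = (n * h) * r by ring, show h * a * n = (n * h) * a by ring] at hwd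
      exact hra (Nat.dvd_of_mul_dvd_mul_left (Nat.mul_pos hn0 (by omega)) hwd)
  have htA : n * h ∣ idx t' := by
    rcases htT with e | e | e
    · exfalso
      rw [e, show 2 * (n * a) = (n * a) * 2 by ring, show h * a * n = (n * a) * h by ring] at htd
      have := Nat.dvd_of_mul_dvd_mul_left (Nat.mul_pos hn0 (by omega)) htd
      omega
    · exact e ▸ Nat.mul_dvd_mul_left n (dvd_mul_left h 2)
    · exact e ▸ dvd_rfl
  obtain ⟨g1, g2⟩ := idx_left_dvd_mul Nat.prime_two hr (Ne.symm hr2) ht' hw' hcomm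
  have htw : n * a ∣ idx (t' * w') := hwA ▸ g2
  have hth : n * h ∣ idx (t' * w') := htA.trans g1
  rcases H.mem (t' * w') with e | e | e | e | e <;> rw [e] at htw hth
  · have := Nat.le_of_dvd one_pos hth
    have : 7 * 3 ≤ n * h := Nat.mul_le_mul D.h7 b1
    omega
  · exact H.not_dvd_U (Or.inl rfl) htw
  · exact x4 hth
  · exact x1 htw
  · exact x2 htw

theorem psl_of_odd (H : Sizes G p n (h * a) (n * a) {n * a, n * (2 * h), n * h}) (D : OddData n a h)
    (hp2 : p ≠ 2) {F : Type*} [Field F] [Fintype F] (hF : Fintype.card F = n) :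
    Nonempty (G ⧸ Subgroup.center G ≃* Matrix.ProjectiveSpecialLinearGroup (Fin 2) F) := by
  refine H.psl_odd hp2 D.two_U (fun t ht htq k hk => ?_) hF
  obtain ⟨b1, b2, b3, b4⟩ := D.bounds
  obtain ⟨r, hr, hrh⟩ := Nat.exists_prime_and_dvd (show h ≠ 1 by omega)
  have hcard : Nat.card (cen t) = h * a := by
    have h1 := (cen t).card_mul_index
    change _ * idx t = _ at h1
    rw [htq, H.card_bar] at h1
    exact Nat.eq_of_mul_eq_mul_right (by omega) h1
  haveI := Fact.mk hr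
  obtain ⟨w, hw⟩ := exists_prime_orderOf_dvd_card' (G := cen t) r (hcard ▸ dvd_mul_of_dvd_left hrh a)
  exact no_mixed H D hr hrh ht ((Subgroup.orderOf_coe w).trans hw) (show Commute t (w : _) from (mem_cen.1 w.2).symm)

/-- The setting of the statements. -/
theorem main {F : Type*} [Field F] [Fintype F]
    (hq : (2 ∣ Fintype.card F ∧ 2 < Fintype.card F) ∨ (¬ 2 ∣ Fintype.card F ∧ 7 ≤ Fintype.card F))
    (hr : Set.range (fun g : G => (Subgroup.centralizer ({g} : Set G)).index) = Set.range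
      (fun g : Matrix.ProjectiveSpecialLinearGroup (Fin 2) F =>
        (Subgroup.centralizer ({g} : Set (Matrix.ProjectiveSpecialLinearGroup (Fin 2) F))).index)) :
    ∃ (p U A : ℕ) (T : Set ℕ), Sizes G p (Fintype.card F) U A T ∧
      Nonempty (G ⧸ Subgroup.center G ≃* Matrix.ProjectiveSpecialLinearGroup (Fin 2) F) := by
  obtain ⟨p, hchar⟩ := CharP.exists F
  obtain ⟨m, hp, hm⟩ := FiniteField.card F p
  rcases hq with ⟨heven, h2lt⟩ | ⟨hodd, h7⟩
  · have h2 : (2 : F) = 0 := not_not.1 fun h => by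
      have := odd_card h; omega
    have h4 : 4 ≤ Fintype.card F := by omega
    have hp2 : p = 2 := ((Nat.prime_dvd_prime_iff_eq Nat.prime_two hp).1
      (Nat.prime_two.dvd_of_dvd_pow (hm ▸ heven))).symm
    have H := sizes_of_even (G := G) hp2 m.ne_zero hm h4 (hr.trans (sizes_even h2 h4))
    exact ⟨p, _, _, _, H, H.psl_even hp2 rfl⟩
  · have h2 : (2 : F) ≠ 0 := fun h => by
      have := even_iff_two_dvd.1 (even_card h); omega
    have hp2 : p ≠ 2 := fun e => hodd (by rw [hm, e]; exact dvd_pow_self 2 m.ne_zero)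
    obtain ⟨a, h, D⟩ := exists_oddData h7 (odd_card h2)
    have H := sizes_of_odd (G := G) hp hp2 m.ne_zero hm D (hr.trans (sizes_odd h2 D))
    exact ⟨p, _, _, _, H, psl_of_odd H D hp2 rfl⟩

end CfsgLib.ClassSizesPSL2
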