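import Cfsg.Agent.ClassSizesPSL2.Data
import Cfsg.Agent.PSL2Two.Concrete
import Cfsg.Agent.Schur.StemSylow
import Cfsg.Agent.Classical.Linear.Simple
import Cfsg.Agent.SL2.Sylow
import Cfsg.Agent.SL2.PSL

/-!
A group with the class sizes of `PSL₂(q)` is the product of its centre and its derived group, which is
`PSL₂(q)`.
-/

set_option autoImplicit false

namespace CfsgLib.ClassSizesPSL2

open CfsgLib.TwoSizes (cen mem_cen IsPElt cen_mul_le center_le_cen)
open CfsgLib.CoprimeLargest
open scoped Pointwise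

variable {G : Type*} [Group G] [Finite G] {p q U A : ℕ} {T : Set ℕ}
variable {F : Type*} [Field F] [Fintype F]

local notation "PF" => Matrix.ProjectiveSpecialLinearGroup (Fin 2) F

/-- The preimage of a cyclic subgroup under a map with central kernel is abelian. -/
theorem commute_of_cyclic_comap {L : Type*} [Group L] (π : G →* L) (hker : π.ker ≤ Subgroup.center G)
    (C : Subgroup L) [IsCyclic C] {x y : G} (hx : π x ∈ C) (hy : π y ∈ C) : x * y = y * x := by
  have hk : (π.subgroupComap C).ker ≤ Subgroup.center (C.comap π) := fun a ha =>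
    Subgroup.mem_center_iff.2 fun b => Subtype.ext (Subgroup.mem_center_iff.1
      (hker (MonoidHom.mem_ker.2 (congrArg Subtype.val (MonoidHom.mem_ker.1 ha)))) b)
  exact congrArg Subtype.val (commutative_of_cyclic_center_quotient (π.subgroupComap C) hk ⟨x, hx⟩ ⟨y, hy⟩)

/-- If lifts of involutions commute with whatever they commute with modulo the centre, the derived
subgroup of the preimage of a dihedral-like `2`-group meets the kernel trivially. -/
theorem commutator_comap_inf_ker {L : Type*} [Group L] (π : G →* L) (hker : π.ker ≤ Subgroup.center G)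
    (hinvol : ∀ t h : G, orderOf (π t) = 2 → Commute (π h) (π t) → Commute h t)
    {u : L} {B : Subgroup L} (D : CfsgLib.PSL2Two.DihedralCentralizer u B) (S : Subgroup L)
    (hS : ∀ s ∈ S, Commute s u) :
    ⁅S.comap π, S.comap π⁆ ⊓ π.ker = ⊥ := by
  haveI := D.cyclic
  have hab : ∀ x y : G, π x ∈ B → π y ∈ B → x * y = y * x := fun x y hx hy =>
    commute_of_cyclic_comap π hker B hx hy
  by_cases hall : ∀ x : G, π x ∈ S → π x ∈ B
  · rw [CfsgLib.Schur.commutator_eq_bot_of_commute fun x hx y hy => hab x y (hall x hx) (hall y hy), bot_inf_eq]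
  push Not at hall
  obtain ⟨b, hb, hbB⟩ := hall
  exact main hinvol hS D hab hb hbB
where
  main {L : Type _} [Group L] {π : G →* L}
      (hinvol : ∀ t h : G, orderOf (π t) = 2 → Commute (π h) (π t) → Commute h t)
      {u : L} {B S : Subgroup L} (hS : ∀ s ∈ S, Commute s u)
      (D : CfsgLib.PSL2Two.DihedralCentralizer u B)
      (hab : ∀ x y : G, π x ∈ B → π y ∈ B → x * y = y * x) {b : G} (hb : π b ∈ S) (hbB : π b ∉ B) :
      ⁅S.comap π, S.comap π⁆ ⊓ π.ker = ⊥ := by
    obtain ⟨hb2, hbinv⟩ := D.inv _ (hS _ hb) hbB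
    have hb1 : π b ≠ 1 := fun e => hbB (e ▸ B.one_mem)
    have hcj : ∀ x : G, π x ∈ B → π (b * x * b⁻¹) ∈ B := fun x hx => by
      rw [map_mul, map_mul, map_inv, hbinv _ hx]; exact B.inv_mem hx
    let φ : (B.comap π : Subgroup G) →* G :=
      { toFun := fun x => b * (x : G) * b⁻¹ * (x : G)⁻¹
        map_one' := by simp
        map_mul' := fun x y => by
          have e : ((x : G))⁻¹ * (b * (y : G) * b⁻¹ * (y : G)⁻¹) = (b * (y : G) * b⁻¹ * (y : G)⁻¹) * (x : G)⁻¹ :=
            hab _ _ (by rw [map_inv]; exact B.inv_mem x.2)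
              (by rw [map_mul]; exact B.mul_mem (hcj _ y.2) (by rw [map_inv]; exact B.inv_mem y.2))
          calc b * ((x * y : (B.comap π : Subgroup G)) : G) * b⁻¹ * ((x * y : (B.comap π : Subgroup G)) : G)⁻¹
              = b * (x : G) * b⁻¹ * ((b * (y : G) * b⁻¹ * (y : G)⁻¹) * (x : G)⁻¹) := by
                rw [Subgroup.coe_mul]; group
            _ = b * (x : G) * b⁻¹ * ((x : G)⁻¹ * (b * (y : G) * b⁻¹ * (y : G)⁻¹)) := by rw [e]
            _ = _ := by group }
    have hrep : ∀ x : G, π x ∈ S → π x ∈ B ∨ ∃ a : G, π a ∈ B ∧ x = a * b := by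
      intro x hx
      by_cases hxB : π x ∈ B
      · exact Or.inl hxB
      refine Or.inr ⟨x * b⁻¹, ?_, by group⟩
      rw [map_mul, map_inv, inv_eq_of_mul_eq_one_left hb2]
      exact D.mul _ _ (hS _ hx) (hS _ hb) hxB hbB
    have hle : ⁅S.comap π, S.comap π⁆ ≤ φ.range := by
      rw [Subgroup.commutator_le]
      intro x hx y hy
      rcases hrep x hx with ha | ⟨a, ha, rfl⟩ <;> rcases hrep y hy with ha' | ⟨a', ha', rfl⟩
      · rw [commutatorElement_eq_one_iff_mul_comm.2 (hab x y ha ha')]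
        exact one_mem _
      · refine ⟨⟨x⁻¹, show π x⁻¹ ∈ B by rw [map_inv]; exact B.inv_mem ha⟩, ?_⟩
        show b * x⁻¹ * b⁻¹ * x⁻¹⁻¹ = _
        have e1 : x * a' = a' * x := hab _ _ ha ha'
        have e2 : a' * (x * (b * x⁻¹ * b⁻¹)) = (x * (b * x⁻¹ * b⁻¹)) * a' := hab _ _ ha' (by
          rw [map_mul]; exact B.mul_mem ha (hcj _ (by rw [map_inv]; exact B.inv_mem ha)))
        have e3 : x * (b * x⁻¹ * b⁻¹) = (b * x⁻¹ * b⁻¹) * x :=
          hab _ _ ha (hcj _ (by rw [map_inv]; exact B.inv_mem ha))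
        rw [commutatorElement_def]
        calc b * x⁻¹ * b⁻¹ * x⁻¹⁻¹ = b * x⁻¹ * b⁻¹ * x := by rw [inv_inv]
          _ = x * (b * x⁻¹ * b⁻¹) := e3.symm
          _ = (x * (b * x⁻¹ * b⁻¹)) * a' * a'⁻¹ := (mul_inv_cancel_right _ _).symm
          _ = a' * (x * (b * x⁻¹ * b⁻¹)) * a'⁻¹ := by rw [e2]
          _ = a' * x * (b * x⁻¹ * b⁻¹) * a'⁻¹ := by group
          _ = x * a' * (b * x⁻¹ * b⁻¹) * a'⁻¹ := by rw [e1]
          _ = x * (a' * b) * x⁻¹ * (a' * b)⁻¹ := by group
      · refine ⟨⟨y, ha'⟩, ?_⟩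
        show b * y * b⁻¹ * y⁻¹ = _
        have e1 : a * (b * y * b⁻¹) = (b * y * b⁻¹) * a := hab _ _ ha (hcj _ ha')
        rw [commutatorElement_def]
        calc b * y * b⁻¹ * y⁻¹ = (b * y * b⁻¹) * a * a⁻¹ * y⁻¹ := by group
          _ = a * (b * y * b⁻¹) * a⁻¹ * y⁻¹ := by rw [e1]
          _ = a * b * y * (a * b)⁻¹ * y⁻¹ := by group
      · refine ⟨⟨a' * a⁻¹, show π (a' * a⁻¹) ∈ B by rw [map_mul, map_inv]; exact B.mul_mem ha' (B.inv_mem ha)⟩, ?_⟩
        show b * (a' * a⁻¹) * b⁻¹ * (a' * a⁻¹)⁻¹ = _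
        have e1 : a * (b * (a' * a⁻¹) * b⁻¹) = (b * (a' * a⁻¹) * b⁻¹) * a :=
          hab _ _ ha (hcj _ (by rw [map_mul, map_inv]; exact B.mul_mem ha' (B.inv_mem ha)))
        rw [commutatorElement_def]
        calc b * (a' * a⁻¹) * b⁻¹ * (a' * a⁻¹)⁻¹ = (b * (a' * a⁻¹) * b⁻¹) * a * a'⁻¹ := by group
          _ = a * (b * (a' * a⁻¹) * b⁻¹) * a'⁻¹ := by rw [e1]
          _ = a * b * (a' * b) * (a * b)⁻¹ * (a' * b)⁻¹ := by group
    rw [eq_bot_iff]
    rintro z ⟨hz, hzk⟩
    obtain ⟨x, rfl⟩ := hle hz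
    rw [Subgroup.mem_bot]
    show b * (x : G) * b⁻¹ * (x : G)⁻¹ = 1
    have hk : π (b * (x : G) * b⁻¹ * (x : G)⁻¹) = 1 := hzk
    rw [map_mul, map_mul, map_mul, map_inv, map_inv, mul_inv_eq_one] at hk
    have hc : Commute (x : G) b :=
      hinvol b x (orderOf_eq_prime (by rw [pow_two, hb2]) hb1) (mul_inv_eq_iff_eq_mul.1 hk).symm
    rw [← hc.eq, mul_inv_cancel_right, mul_inv_cancel]

/-- An element of `PSL₂(q)` with class size `q h` is an involution. -/
theorem sq_eq_one_of_index {a h : ℕ} (D : OddData (Fintype.card F) a h) (h2 : (2 : F) ≠ 0) {x : PF}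
    (hx : (Subgroup.centralizer ({x} : Set PF)).index = Fintype.card F * h) : x * x = 1 := by
  by_contra hx2
  obtain ⟨g, rfl⟩ := SL2.pmk_surjective x
  have hG : Nat.card PF * 2 = Fintype.card F * (Fintype.card F ^ 2 - 1) :=
    CfsgLib.Dickson.psl_card_mul_two (SL2.two_ne_zero_iff_odd.1 h2)
  obtain ⟨h4, hh, h7, rel⟩ := D
  have hU := (⟨h4, hh, h7, rel⟩ : OddData (Fintype.card F) a h).two_U
  have h1 := (Subgroup.centralizer ({SL2.pmk g} : Set PF)).card_mul_index
  rw [hx] at h1
  have hc : Nat.card (Subgroup.centralizer ({SL2.pmk g} : Set PF)) = a := by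
    have h3 : Fintype.card F ^ 2 - 1 = 2 * (h * a) := by omega
    rw [← h1, h3] at hG
    refine Nat.eq_of_mul_eq_mul_right (show 0 < Fintype.card F * h * 2 by
      exact Nat.mul_pos (Nat.mul_pos (by omega) (by omega)) two_pos) ?_
    linarith [hG]
  have h5 := two_mul_card_cen h2 hx2
  rw [hc] at h5
  have hgc : g ∉ Subgroup.center (Matrix.SpecialLinearGroup (Fin 2) F) :=
    CfsgLib.BinaryPSL.not_mem_center fun e => hx2 (by rw [e, one_mul])
  by_cases ht : SL2.tr g ^ 2 = 4
  · rw [card_cen_tr_four hgc ht, card_sq_eq_one h2] at h5; omega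
  by_cases hs : SL2.IsSplitTrace (SL2.tr g)
  · rw [SL2.card_centralizer_split ht hs] at h5; omega
  · rw [SL2.card_centralizer_nonsplit hs] at h5; omega

theorem isCyclic_sylow_psl {r : ℕ} [Fact r.Prime] (hp : p.Prime) [CharP F p] (hr2 : r ≠ 2) (hrp : r ≠ p)
    (S : Sylow r PF) : IsCyclic (S : Subgroup PF) := by
  haveI := Fact.mk hp
  obtain ⟨R, rfl⟩ := Sylow.mapSurjective_surjective (f := (SL2.pmk : _ →* PF)) SL2.pmk_surjective r S
  haveI := SL2.isCyclic_sylow_odd (p := p) hr2 hrp R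
  rw [Sylow.coe_mapSurjective]
  exact isCyclic_of_surjective ((SL2.pmk : _ →* PF).subgroupMap (R : Subgroup _))
    (MonoidHom.subgroupMap_surjective _ _)

/-- Lifts of involutions commute with whatever they commute with modulo the centre. -/
theorem commute_lift_involution {n a h : ℕ} (hF : Fintype.card F = n) (D : OddData n a h)
    (H : Sizes G p n (h * a) (n * a) {n * a, n * (2 * h), n * h}) (h2 : (2 : F) ≠ 0)
    (e : G ⧸ Subgroup.center G ≃* PF) {t x : G}
    (ht : orderOf (e t) = 2) (hx : Commute (e x) (e t)) : Commute x t := by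
  subst hF
  obtain ⟨g, hg⟩ := H.exT (Fintype.card F * h) (Or.inr (Or.inr rfl))
  set K := (cen (g : G ⧸ Subgroup.center G)).comap (QuotientGroup.mk' (Subgroup.center G))
  have hle : cen g ≤ K := fun k hk => mem_cen.2 (by
    show (k : G ⧸ Subgroup.center G) * (g : G ⧸ Subgroup.center G) = _
    rw [← QuotientGroup.mk_mul, mem_cen.1 hk]; rfl)
  have hKi : K.index = idx (g : G ⧸ Subgroup.center G) :=
    Subgroup.index_comap_of_surjective _ (QuotientGroup.mk'_surjective _)
  have hidx : (Subgroup.centralizer ({e g} : Set PF)).index = idx (g : G ⧸ Subgroup.center G) := by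
    have : (cen (g : G ⧸ Subgroup.center G)) = (Subgroup.centralizer ({e g} : Set PF)).comap e.toMonoidHom := by
      ext k
      rw [mem_cen, Subgroup.mem_comap, Subgroup.mem_centralizer_singleton_iff]
      show _ ↔ e k * e g = e g * e k
      rw [← map_mul, ← map_mul, e.injective.eq_iff]
    rw [idx, this, Subgroup.index_comap_of_surjective _ e.surjective]
  have hg1 : (g : G ⧸ Subgroup.center G) ≠ 1 := fun h1 => H.not_central_of_T (Or.inr (Or.inr rfl)) hg
    ((QuotientGroup.eq_one_iff g).1 h1)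
  have hdvd : idx (g : G ⧸ Subgroup.center G) ∣ Fintype.card F * h := by
    rw [← hKi, ← hg]; exact Subgroup.index_dvd_of_le hle
  have hqh : idx (g : G ⧸ Subgroup.center G) = Fintype.card F * h := by
    have hmem : (Subgroup.centralizer ({e g} : Set PF)).index ∈
        Set.range (fun y : PF => (Subgroup.centralizer ({y} : Set PF)).index) := ⟨e g, rfl⟩
    rw [sizes_odd h2 D] at hmem
    rw [hidx] at hmem
    obtain ⟨x1, x2, x3, x4, x5⟩ := D.ndvd
    rcases hmem with h0 | h0 | h0 | h0 | h0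
    · exfalso
      have hc : (g : G ⧸ Subgroup.center G) ∈ Subgroup.center (G ⧸ Subgroup.center G) := (idx_eq_one_iff _).1 h0
      have hy := H.exists_pElt_U
      obtain ⟨y, hy, hyU⟩ := hy
      have hy1 : (y : G ⧸ Subgroup.center G) ≠ 1 := fun e1 =>
        H.not_central_of_U hyU ((QuotientGroup.eq_one_iff y).1 e1)
      obtain ⟨k, hk⟩ := hy
      have hyp : IsPElt p (y : G ⧸ Subgroup.center G) := ⟨k, by rw [← QuotientGroup.mk_pow, hk, QuotientGroup.mk_one]⟩
      have hgp := H.isPElt_of_commute hyp hy1 (mem_cen.2 (Subgroup.mem_center_iff.1 hc _).symm)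
      have := H.idx_bar hgp hg1
      have := H.hU1
      omega
    · exact absurd (h0 ▸ hdvd) fun e1 => by
        obtain ⟨b1, b2, b3, b4⟩ := D.bounds
        have h1 := Nat.le_of_dvd (by omega) (D.cop_n.symm.dvd_of_dvd_mul_left e1)
        have := Nat.mul_le_mul_left h b2
        omega
    · exact absurd (h0 ▸ hdvd) x2
    · exact absurd (h0 ▸ hdvd) x5
    · exact h0
  have hKeq : cen g = K := Subgroup.eq_of_le_of_card_ge hle (by
    have h1 := (cen g).card_mul_index
    have h2' := K.card_mul_index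
    rw [hKi, hqh, ← hg] at h2'
    exact le_of_eq (Nat.eq_of_mul_eq_mul_right (Nat.pos_of_ne_zero (idx_ne_zero g)) (h2'.trans h1.symm)))
  have hsq : e g * e g = 1 := sq_eq_one_of_index D h2 (hidx.trans hqh)
  obtain ⟨c, hc⟩ := isConj_iff.1 (SL2.isConj_of_orderOf_two
    (orderOf_eq_prime (by rw [pow_two, hsq]) fun e1 => hg1 (e.injective (e1.trans e.map_one.symm))) ht)
  obtain ⟨k', rfl⟩ := e.surjective c
  obtain ⟨k, rfl⟩ := QuotientGroup.mk_surjective k'
  rw [← map_inv, ← map_mul, ← map_mul, e.injective.eq_iff] at hc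
  have hz : t⁻¹ * (k * g * k⁻¹) ∈ Subgroup.center G := by
    rw [← QuotientGroup.eq_one_iff, QuotientGroup.mk_mul, QuotientGroup.mk_inv, QuotientGroup.mk_mul,
      QuotientGroup.mk_mul, QuotientGroup.mk_inv, hc, inv_mul_cancel]
  have hxt : Commute (x : G ⧸ Subgroup.center G) (t : G ⧸ Subgroup.center G) :=
    e.injective (by rw [map_mul, map_mul]; exact hx)
  have hmem : k⁻¹ * x * k ∈ cen g := by
    rw [hKeq]
    refine mem_cen.2 ?_
    show ((k⁻¹ * x * k : G) : G ⧸ Subgroup.center G) * (g : G ⧸ Subgroup.center G) = (g : G ⧸ Subgroup.center G) * ((k⁻¹ * x * k : G) : G ⧸ Subgroup.center G)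
    simp only [QuotientGroup.mk_mul, QuotientGroup.mk_inv]
    rw [← hc] at hxt
    calc (k : G ⧸ Subgroup.center G)⁻¹ * x * k * g = (k : G ⧸ Subgroup.center G)⁻¹ * (x * (k * g * (k : G ⧸ Subgroup.center G)⁻¹)) * k := by group
      _ = (k : G ⧸ Subgroup.center G)⁻¹ * (k * g * (k : G ⧸ Subgroup.center G)⁻¹ * x) * k := by rw [hxt.eq]
      _ = _ := by group
  have hck : Commute x (k * g * k⁻¹) := by
    have h1 := mem_cen.1 hmem
    show x * (k * g * k⁻¹) = k * g * k⁻¹ * x
    calc x * (k * g * k⁻¹) = k * (k⁻¹ * x * k * g) * k⁻¹ := by group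
      _ = k * (g * (k⁻¹ * x * k)) * k⁻¹ := by rw [h1]
      _ = _ := by group
  have hzx : Commute x (t⁻¹ * (k * g * k⁻¹))⁻¹ := (show Commute x _ from Subgroup.mem_center_iff.1 hz x).inv_right
  have := hck.mul_right hzx
  rwa [show k * g * k⁻¹ * (t⁻¹ * (k * g * k⁻¹))⁻¹ = t by group] at this

theorem isSimple_quotient (H : Sizes G p q U A T) (hF : 4 ≤ Fintype.card F) (e : G ⧸ Subgroup.center G ≃* PF) :
    IsSimpleGroup (G ⧸ Subgroup.center G) ∧ commutator (G ⧸ Subgroup.center G) = ⊤ := by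
  haveI : IsSimpleGroup PF :=
    CfsgLib.Classical.Linear.isSimpleGroup_psl_fin le_rfl fun _ => by rwa [Nat.card_eq_fintype_card]
  haveI : Nontrivial (G ⧸ Subgroup.center G) := e.toEquiv.nontrivial
  haveI hs : IsSimpleGroup (G ⧸ Subgroup.center G) := IsSimpleGroup.isSimpleGroup_of_surjective e.symm.toMonoidHom e.symm.surjective
  refine ⟨hs, ((commutator (G ⧸ Subgroup.center G)).normal_of_characteristic.eq_bot_or_eq_top).resolve_left fun hb => ?_⟩
  obtain ⟨y, ⟨k, hk⟩, hyU⟩ := H.exists_pElt_U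
  have hy1 : (y : G ⧸ Subgroup.center G) ≠ 1 := fun e1 =>
    H.not_central_of_U hyU ((QuotientGroup.eq_one_iff y).1 e1)
  have hidx := H.idx_bar ⟨k, by rw [← QuotientGroup.mk_pow, hk, QuotientGroup.mk_one]⟩ hy1
  rw [(idx_eq_one_iff _).2 (Subgroup.mem_center_iff.2 fun g => ?_)] at hidx
  · exact H.hU1.ne hidx
  · rw [commutator_def, Subgroup.commutator_eq_bot_iff_le_centralizer] at hb
    exact (Subgroup.mem_centralizer_iff.1 (hb (Subgroup.mem_top g)) _ (Subgroup.mem_top _)).symm

/-- The decomposition. -/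
theorem decompose (hp : p.Prime) [CharP F p] (H : Sizes G p q U A T) (hF : 4 ≤ Fintype.card F)
    (e : G ⧸ Subgroup.center G ≃* PF)
    (hinvol : p ≠ 2 → ∀ t x : G, orderOf (e t) = 2 → Commute (e x) (e t) → Commute x t) :
    ∃ N B : Subgroup G, N.Normal ∧ B ≤ Subgroup.center G ∧ N ⊓ B = ⊥ ∧ N ⊔ B = ⊤ ∧ Nonempty (N ≃* PF) := by
  obtain ⟨-, hperf⟩ := isSimple_quotient H hF e
  set π : G →* PF := e.toMonoidHom.comp (QuotientGroup.mk' (Subgroup.center G))
  have hπs : Function.Surjective π := e.surjective.comp (QuotientGroup.mk'_surjective _)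
  have hker : π.ker = Subgroup.center G := by
    rw [← MonoidHom.comap_ker, show (e.toMonoidHom).ker = ⊥ from (MonoidHom.ker_eq_bot_iff _).2 e.injective,
      MonoidHom.comap_bot, QuotientGroup.ker_mk']
  have hinf : commutator G ⊓ Subgroup.center G = ⊥ := by
    by_contra hne
    have hc1 : Nat.card (commutator G ⊓ Subgroup.center G : Subgroup G) ≠ 1 := fun h1 => hne (Subgroup.card_eq_one.1 h1)
    obtain ⟨r, hr, hrd⟩ := Nat.exists_prime_and_dvd hc1
    haveI := Fact.mk hr
    obtain ⟨z, hz⟩ := exists_prime_orderOf_dvd_card' r hrd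
    rw [← Subgroup.orderOf_coe] at hz
    obtain ⟨hzd, hzc⟩ := z.2
    obtain ⟨S⟩ : Nonempty (Sylow r PF) := inferInstance
    have hpow := CfsgLib.Schur.pow_index_mem_commutator ((S : Subgroup PF).comap π) hzc hzd
    rw [Subgroup.index_comap_of_surjective _ hπs] at hpow
    obtain ⟨i, hi⟩ := exists_pow_eq_self_of_coprime (x := (z : G)) (n := (S : Subgroup PF).index)
      (by rw [hz]; exact (hr.coprime_iff_not_dvd.2 S.not_dvd_index).symm)
    have hmem : (z : G) ∈ ⁅(S : Subgroup PF).comap π, (S : Subgroup PF).comap π⁆ ⊓ π.ker :=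
      ⟨hi ▸ pow_mem hpow i, hker.symm ▸ hzc⟩
    have hbot : ⁅(S : Subgroup PF).comap π, (S : Subgroup PF).comap π⁆ ⊓ π.ker = ⊥ := by
      by_cases hrp : r = p
      · subst hrp
        rw [CfsgLib.Schur.commutator_eq_bot_of_commute fun x hx y hy => ?_, bot_inf_eq]
        obtain ⟨P, hP⟩ := ((S.2.map e.symm.toMonoidHom)).exists_le_sylow
        have hxP : (x : G ⧸ Subgroup.center G) ∈ (P : Subgroup _) :=
          hP ⟨e x, hx, e.symm_apply_apply _⟩
        have hyP : (y : G ⧸ Subgroup.center G) ∈ (P : Subgroup _) :=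
          hP ⟨e y, hy, e.symm_apply_apply _⟩
        by_cases hx1 : (x : G ⧸ Subgroup.center G) = 1
        · exact (Subgroup.mem_center_iff.1 ((QuotientGroup.eq_one_iff x).1 hx1) y).symm
        obtain ⟨x', hx', hx'Z, hxx'⟩ := H.exists_lift (H.pElt_of_mem P hxP) hx1
        have hyc : y ∈ cen x' := by
          rw [← H.comap_cen hx' hx'Z]
          exact mem_cen.2 (by
            show (y : G ⧸ Subgroup.center G) * (x' : G ⧸ Subgroup.center G) = _
            rw [hxx']; exact H.sylow_comm P _ hyP _ hxP)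
        have hz0 : x * x'⁻¹ ∈ Subgroup.center G := by
          rw [← QuotientGroup.eq_one_iff, QuotientGroup.mk_mul, QuotientGroup.mk_inv, hxx', mul_inv_cancel]
        have h3 : Commute y (x * x'⁻¹ * x') :=
          (show Commute y _ from Subgroup.mem_center_iff.1 hz0 y).mul_right (mem_cen.1 hyc)
        rw [inv_mul_cancel_right] at h3
        exact h3.symm.eq
      by_cases hr2 : r = 2
      · subst hr2
        have hp2 : p ≠ 2 := fun h => hrp h.symm
        have h2F : (2 : F) ≠ 0 := fun h => by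
          haveI : CharP F 2 := CharTwo.of_one_ne_zero_of_two_eq_zero one_ne_zero h
          exact hp2 (CharP.eq F ‹CharP F p› this)
        have hodd : Fintype.card F % 2 = 1 := odd_card h2F
        haveI : Nontrivial (S : Subgroup PF) := by
          refine Finite.one_lt_card_iff_nontrivial.1 ?_
          have h2d : 2 ∣ Nat.card PF := by
            have h0 := orderOf_dvd_natCard (CfsgLib.SL2.pmk (CfsgLib.SL2.w : Matrix.SpecialLinearGroup (Fin 2) F))
            rwa [(CfsgLib.SL2.orderOf_pmk_eq_two_iff h2F).2 CfsgLib.SL2.tr_w] at h0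
          have := Nat.le_of_dvd Nat.card_pos (S.dvd_card_of_dvd_card h2d)
          omega
        haveI : Nontrivial (Subgroup.center (S : Subgroup PF)) := S.2.center_nontrivial
        obtain ⟨n, hn, hcard⟩ := (IsPGroup.nontrivial_iff_card (p := 2) (S.2.to_subgroup (Subgroup.center _))).1 inferInstance
        obtain ⟨w, hw⟩ := exists_prime_orderOf_dvd_card' (G := Subgroup.center (S : Subgroup PF)) 2
          (hcard ▸ dvd_pow_self 2 hn.ne')
        rw [← Subgroup.orderOf_coe, ← Subgroup.orderOf_coe] at hw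
        obtain ⟨c, hc⟩ := CfsgLib.PSL2Two.one_class hodd _ hw
        refine commutator_comap_inf_ker π hker.le (hinvol hp2)
          ((CfsgLib.PSL2Two.dihedralCentralizer hodd).conj c) S fun s hs => ?_
        rw [hc]
        exact congrArg Subtype.val (Subgroup.mem_center_iff.1 w.2 ⟨s, hs⟩)
      · haveI := isCyclic_sylow_psl hp hr2 hrp S
        rw [CfsgLib.Schur.commutator_eq_bot_of_commute fun x hx y hy =>
          commute_of_cyclic_comap π hker.le (S : Subgroup PF) hx hy, bot_inf_eq]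
    rw [hbot, Subgroup.mem_bot] at hmem
    rw [hmem, orderOf_one] at hz
    exact hr.ne_one hz.symm
  have hsup : commutator G ⊔ Subgroup.center G = ⊤ := by
    have h1 : (commutator G).map (QuotientGroup.mk' (Subgroup.center G)) = ⊤ := by
      rw [commutator_def, Subgroup.map_commutator, Subgroup.map_top_of_surjective _ (QuotientGroup.mk'_surjective _), ← commutator_def, hperf]
    rw [eq_top_iff]
    intro g _
    obtain ⟨c, hc, hcg⟩ : (g : G ⧸ Subgroup.center G) ∈ (commutator G).map (QuotientGroup.mk' (Subgroup.center G)) := h1.symm ▸ Subgroup.mem_top _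
    have : c⁻¹ * g ∈ Subgroup.center G := QuotientGroup.eq.1 hcg
    rw [show g = c * (c⁻¹ * g) by group]
    exact mul_mem (Subgroup.mem_sup_left hc) (Subgroup.mem_sup_right this)
  refine ⟨commutator G, Subgroup.center G, inferInstance, le_rfl, hinf, hsup,
    ⟨MulEquiv.ofBijective (π.comp (commutator G).subtype) ⟨?_, ?_⟩⟩⟩
  · rw [← MonoidHom.ker_eq_bot_iff, eq_bot_iff]
    intro x hx
    have : (x : G) ∈ commutator G ⊓ Subgroup.center G := ⟨x.2, hker ▸ hx⟩
    rw [hinf, Subgroup.mem_bot] at this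
    exact Subgroup.mem_bot.2 (Subtype.ext this)
  · intro y
    obtain ⟨g, rfl⟩ := hπs y
    have hg : g ∈ ((commutator G : Set G) * (Subgroup.center G : Set G)) := by
      rw [← Subgroup.mul_normal, hsup]; exact Subgroup.mem_top g
    obtain ⟨c, hc, z, hz, rfl⟩ := hg
    refine ⟨⟨c, hc⟩, ?_⟩
    show π c = π (c * z)
    rw [map_mul, MonoidHom.mem_ker.1 (hker.symm ▸ hz : z ∈ π.ker), mul_one]

/-- The statement of the decomposition. -/
theorem main_split
    (hq : (2 ∣ Fintype.card F ∧ 2 < Fintype.card F) ∨ (¬ 2 ∣ Fintype.card F ∧ 7 ≤ Fintype.card F))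
    (hr : Set.range (fun g : G => (Subgroup.centralizer ({g} : Set G)).index) = Set.range
      (fun g : PF => (Subgroup.centralizer ({g} : Set PF)).index)) :
    ∃ N B : Subgroup G, N.Normal ∧ B ≤ Subgroup.center G ∧ N ⊓ B = ⊥ ∧ N ⊔ B = ⊤ ∧ Nonempty (N ≃* PF) := by
  obtain ⟨p, hchar⟩ := CharP.exists F
  obtain ⟨m, hp, hm⟩ := FiniteField.card F p
  rcases hq with ⟨heven, h2lt⟩ | ⟨hodd, h7⟩
  · have h2 : (2 : F) = 0 := not_not.1 fun h => by
      have := odd_card h; omega
    have h4 : 4 ≤ Fintype.card F := by omega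
    have hp2 : p = 2 := ((Nat.prime_dvd_prime_iff_eq Nat.prime_two hp).1
      (Nat.prime_two.dvd_of_dvd_pow (hm ▸ heven))).symm
    have H := sizes_of_even (G := G) hp2 m.ne_zero hm h4 (hr.trans (sizes_even h2 h4))
    obtain ⟨e⟩ := H.psl_even hp2 (F := F) rfl
    exact decompose hp H h4 e fun h => absurd hp2 h
  · have h2 : (2 : F) ≠ 0 := fun h => by
      have := even_iff_two_dvd.1 (even_card h); omega
    have hp2 : p ≠ 2 := fun e => hodd (by rw [hm, e]; exact dvd_pow_self 2 m.ne_zero)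
    obtain ⟨a, h, D⟩ := exists_oddData h7 (odd_card h2)
    have H := sizes_of_odd (G := G) hp hp2 m.ne_zero hm D (hr.trans (sizes_odd h2 D))
    obtain ⟨e⟩ := psl_of_odd H D hp2 (F := F) rfl
    exact decompose hp H (by omega) e fun _ _ _ => commute_lift_involution rfl D H h2 e

end CfsgLib.ClassSizesPSL2
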