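import Cfsg.Agent.ClassSizesPSL2.Sylow
import Cfsg.Agent.CAGroups.Recognition
import Cfsg.Agent.ZassAbelian.Final
import Cfsg.Agent.Dickson.PSL

/-!
The centre quotient is `PSL₂(q)`, up to the exclusion of a regular normal subgroup in odd characteristic.
-/

set_option autoImplicit false

namespace CfsgLib.ClassSizesPSL2

open CfsgLib.TwoSizes (cen mem_cen IsPElt cen_mul_le center_le_cen)
open CfsgLib.CoprimeLargest
open MulAction

variable {G : Type*} [Group G] [Finite G] {p q U A : ℕ} {T : Set ℕ}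

namespace Sizes

variable (H : Sizes G p q U A T)
include H

local notation "Q" => G ⧸ Subgroup.center G

theorem sylow_not_normal [Fact p.Prime] (P : Sylow p Q) : ¬ (P : Subgroup Q).Normal := by
  intro hn
  haveI := Sylow.unique_of_normal P hn
  have := H.card_sylows
  rw [Nat.card_unique] at this
  have := H.q4
  omega

theorem psl_even (hp2 : p = 2) {F : Type*} [Field F] [Fintype F] (hF : Fintype.card F = q) :
    Nonempty (Q ≃* Matrix.ProjectiveSpecialLinearGroup (Fin 2) F) := by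
  subst hp2
  haveI : Fact (Nat.Prime 2) := ⟨Nat.prime_two⟩
  obtain ⟨P⟩ : Nonempty (Sylow 2 Q) := inferInstance
  have hsq : ∀ (R : Sylow 2 Q), ∀ x ∈ (R : Subgroup Q), x ^ 2 = 1 := fun R x hx => by
    rw [pow_two]; exact H.sq_of_two rfl x (H.pElt_of_mem R hx)
  have hyp : CfsgLib.StronglyEmbedded.AbelianCentralizer.Hyp P := by
    refine ⟨fun hcyc => ?_, H.sylow_not_normal P, fun t ht => ?_⟩
    · obtain ⟨g, hg⟩ := hcyc.exists_ofOrder_eq_natCard
      have h2 : g ^ 2 = 1 := Subtype.ext (hsq P g g.2)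
      have := orderOf_dvd_of_pow_eq_one h2
      rw [hg, H.card_sylow P] at this
      have := Nat.le_of_dvd two_pos this
      have := H.q4
      omega
    · have htp : IsPElt 2 t := ⟨1, by rw [pow_one, ← ht, pow_orderOf_eq_one]⟩
      have hz : IsPGroup 2 (Subgroup.zpowers t) := IsPGroup.of_card (n := 1) (by rw [Nat.card_zpowers, ht, pow_one])
      obtain ⟨R, hR⟩ := hz.exists_le_sylow
      have hc := H.cen_eq R (hR (Subgroup.mem_zpowers t)) (fun e => by rw [e, orderOf_one] at ht; omega)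
      change IsMulCommutative (cen t) ∧ ∀ c ∈ cen t, c ^ 2 = 1
      rw [hc]
      exact ⟨⟨⟨fun a b => Subtype.ext (H.sylow_comm R a a.2 b b.2)⟩⟩, hsq R⟩
  obtain ⟨K, iK, iT, -, hK, ⟨e⟩⟩ := CfsgLib.CAGroups.nonempty_mulEquiv_psl hyp
  obtain ⟨e'⟩ := CfsgLib.Dickson.psl_congr
    (FiniteField.ringEquivOfCardEq (K := K) (K' := F) (by rw [hK, H.card_sylow P, hF]))
  exact ⟨e.trans e'⟩

theorem exists_setting [Fact p.Prime] :
    ∃ D : CfsgLib.ZassAbelian.Setting Q (Sylow p Q), Nat.card D.F = q := by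
  classical
  have hq4 := H.q4
  have hn := H.card_sylows
  obtain ⟨P⟩ : Nonempty (Sylow p Q) := inferInstance
  have hPfix : ∀ u ∈ (P : Subgroup Q), u • P = P := fun u hu =>
    Sylow.smul_eq_iff_mem_normalizer.mpr (Subgroup.le_normalizer hu)
  have hfree : ∀ u ∈ (P : Subgroup Q), ∀ R : Sylow p Q, R ≠ P → u • R = R → u = 1 := by
    intro u hu R hR huR
    by_contra hu1
    exact hR (H.sylow_eq_of_mem P R hu
      (CfsgLib.SylowToolkit.mem_of_smul_eq (CfsgLib.SylowToolkit.isPGroup_zpowers_of_mem hu) huR) hu1).symm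
  have hreg : ∀ y z : Sylow p Q, y ≠ P → z ≠ P → ∃ u ∈ (P : Subgroup Q), u • y = z := by
    intro y z hy hz
    haveI := Fintype.ofFinite (Sylow p Q)
    let f : ↥(P : Subgroup Q) → {R : Sylow p Q // R ≠ P} := fun u =>
      ⟨(u : Q) • y, fun e => hy (by
        have := congrArg ((u : Q)⁻¹ • ·) e
        rwa [inv_smul_smul, hPfix _ (inv_mem u.2)] at this)⟩
    have hcard : Nat.card {R : Sylow p Q // R ≠ P} = q := by
      rw [Nat.card_eq_fintype_card, Fintype.card_subtype_compl, Fintype.card_subtype_eq,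
        ← Nat.card_eq_fintype_card, hn, Nat.add_sub_cancel]
    have hinj : Function.Injective f := fun u v e => by
      have e' : (u : Q) • y = (v : Q) • y := congrArg Subtype.val e
      have h1 := hfree _ (mul_mem (inv_mem v.2) u.2) y hy (by rw [mul_smul, e', inv_smul_smul])
      exact Subtype.ext (inv_mul_eq_one.mp h1).symm
    obtain ⟨u, hu⟩ := ((Nat.bijective_iff_injective_and_card f).mpr
      ⟨hinj, by rw [H.card_sylow P, hcard]⟩).2 ⟨z, hz⟩
    exact ⟨u, u.2, congrArg Subtype.val hu⟩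
  have hmove : ∀ a b : Sylow p Q, a ≠ b → ∀ g : Q, g • a = P → g • b ≠ P := fun a b hab g hga hgb =>
    hab (smul_left_cancel g (hga.trans hgb.symm))
  obtain ⟨o, ho⟩ : ∃ o : Sylow p Q, o ≠ P := by
    haveI : Nontrivial (Sylow p Q) := Finite.one_lt_card_iff_nontrivial.mp (by omega)
    exact exists_ne P
  have h3 : ∃ c : Sylow p Q, c ≠ P ∧ c ≠ o := by
    by_contra hcon
    push Not at hcon
    have hsub : (Set.univ : Set (Sylow p Q)) ⊆ {P, o} := fun x _ => (em (x = P)).imp id (hcon x)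
    have := Set.ncard_le_ncard hsub
    rw [Set.ncard_univ, Set.ncard_pair ho.symm, hn] at this
    omega
  refine ⟨⟨P, o, ho.symm, ?_, ?_, h3, (P : Subgroup Q), hPfix, ?_, H.sylow_comm P, hreg, hfree⟩,
    H.card_sylow P⟩
  · intro a b c d hab hcd
    obtain ⟨g₁, hg₁⟩ := exists_smul_eq Q a P
    obtain ⟨g₂, hg₂⟩ := exists_smul_eq Q c P
    obtain ⟨u, hu, hu'⟩ := hreg (g₁ • b) (g₂ • d) (hmove a b hab g₁ hg₁) (hmove c d hcd g₂ hg₂)
    refine ⟨g₂⁻¹ * u * g₁, ?_, ?_⟩
    · rw [mul_smul, mul_smul, hg₁, hPfix u hu, inv_smul_eq_iff, hg₂]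
    · rw [mul_smul, mul_smul, hu', inv_smul_eq_iff]
  · intro g a b c hab hbc hac ha hb hc'
    obtain ⟨x, hx⟩ := exists_smul_eq Q a P
    have hfix : ∀ r : Sylow p Q, g • r = r → (x * g * x⁻¹) • (x • r) = x • r := fun r hr => by
      rw [mul_smul, inv_smul_smul, mul_smul, hr]
    set g' := x * g * x⁻¹ with hg'
    have hP' : g' • P = P := hx ▸ hfix a ha
    have hb' := hfix b hb
    have hc'' := hfix c hc'
    have hbP := hmove a b hab x hx
    have hcP := hmove a c hac x hx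
    obtain ⟨u, hu, hu'⟩ := hreg _ _ hbP hcP
    have hgN : g' ∈ Subgroup.normalizer ((P : Subgroup Q) : Set Q) :=
      Sylow.smul_eq_iff_mem_normalizer.mp hP'
    have hconj : g' * u * g'⁻¹ ∈ (P : Subgroup Q) := (Subgroup.mem_normalizer_iff.mp hgN u).mp hu
    have hgu : g' * u * g'⁻¹ = u := by
      have h1 := hfree _ (mul_mem (inv_mem hu) hconj) (x • b) hbP (by
        rw [mul_smul, mul_smul, mul_smul, inv_smul_eq_iff.mpr hb'.symm, hu', hc'', inv_smul_eq_iff, hu'])
      exact (inv_mul_eq_one.mp h1).symm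
    have hu1 : u ≠ 1 := fun e => hbc (smul_left_cancel x (by rw [← hu', e, one_smul]))
    have hgP : g' ∈ (P : Subgroup Q) := by
      rw [← H.cen_eq P hu hu1]
      exact mem_cen.2 (mul_inv_eq_iff_eq_mul.mp hgu)
    exact conj_eq_one_iff.mp (hfree g' hgP _ hbP hb')
  · intro g hg u hu
    exact (Subgroup.mem_normalizer_iff.mp (Sylow.smul_eq_iff_mem_normalizer.mp hg) u).mp hu

theorem psl_odd (hp2 : p ≠ 2) (hU : 2 * U + 1 = q ^ 2)
    (hno : ∀ t : Q, orderOf t = 2 → idx t = q → ∀ k, q + 1 = 2 ^ k → False)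
    {F : Type*} [Field F] [Fintype F] (hF : Fintype.card F = q) :
    Nonempty (Q ≃* Matrix.ProjectiveSpecialLinearGroup (Fin 2) F) := by
  classical
  haveI := Fact.mk H.hp
  obtain ⟨D, hD⟩ := H.exists_setting
  have hq4 := H.q4
  have hU1 := H.hU1
  have hd : 2 * Nat.card D.H = q - 1 := by
    have h1 := D.card_G
    rw [hD, H.card_bar] at h1
    have h2 : U = (q + 1) * Nat.card D.H :=
      Nat.eq_of_mul_eq_mul_right (show 0 < q by omega) (by rw [h1]; ring)
    have h3 : (q + 1) * (2 * Nat.card D.H) = (q + 1) * (q - 1) := by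
      rw [← Nat.sq_sub_sq, one_pow, ← hU, h2, Nat.add_sub_cancel]; ring
    exact Nat.eq_of_mul_eq_mul_left (by omega) h3
  rcases CfsgLib.ZassAbelian.classify D with h | ⟨h, hinv⟩ | ⟨M, hM, htrans, hMfree⟩
  · rw [hD] at h; omega
  · obtain ⟨K, iK, iT, hK, -, ⟨e⟩⟩ := CfsgLib.ZassAbelian.psl_of_inverted D h hinv
    obtain ⟨e'⟩ := CfsgLib.Dickson.psl_congr
      (FiniteField.ringEquivOfCardEq (K := K) (K' := F) (by rw [hK, hD, hF]))
    exact ⟨e.trans e'⟩
  exfalso
  have hcardM : Nat.card M = q + 1 := by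
    have hb : Function.Bijective fun m : M => (m : Q) • D.i := by
      refine ⟨fun a b e => ?_, fun R => ?_⟩
      · have e' : (a : Q) • D.i = (b : Q) • D.i := e
        exact Subtype.ext (inv_mul_eq_one.1 (hMfree _ (mul_mem (inv_mem b.2) a.2) D.i
          (by rw [mul_smul, e', inv_smul_smul]))).symm
      · obtain ⟨m, hm, he⟩ := htrans D.i R
        exact ⟨⟨m, hm⟩, he⟩
    rw [Nat.card_congr (Equiv.ofBijective _ hb), H.card_sylows]
  obtain ⟨m, hm, hmq⟩ := H.hq
  have hpM : ¬ p ∣ Nat.card M := fun h => by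
    have hpq : p ∣ q := hmq ▸ dvd_pow_self p hm
    rw [hcardM] at h
    exact H.hp.ne_one (Nat.dvd_one.1 ((Nat.dvd_add_right hpq).1 h))
  -- all nontrivial elements of `M` form one class of size `q`
  have hcls : ∀ x ∈ M, x ≠ 1 → idx x = q ∧ (Set.range fun g : Q => g * x * g⁻¹) = {y | y ∈ M ∧ y ≠ 1} := by
    intro x hx hx1
    have hsub : (Set.range fun g : Q => g * x * g⁻¹) ⊆ {y | y ∈ M ∧ y ≠ 1} := by
      rintro _ ⟨g, rfl⟩
      exact ⟨hM.conj_mem x hx g, fun e => hx1 (conj_eq_one_iff.1 e)⟩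
    have hMc : {y : Q | y ∈ M ∧ y ≠ 1}.ncard = q := by
      have : {y : Q | y ∈ M ∧ y ≠ 1} = (M : Set Q) \ {1} := rfl
      rw [this, Set.ncard_sdiff_singleton_of_mem M.one_mem, ← Nat.card_coe_set_eq]
      exact (congrArg (· - 1) hcardM).trans (Nat.add_sub_cancel q 1)
    have hle : idx x ≤ q := by
      rw [← hMc, idx, ← CfsgLib.ClassSizes.ncard_conjRange]
      exact Set.ncard_le_ncard hsub (Set.toFinite _)
    have hdvd : q ∣ idx x := by
      have hc : ¬ p ∣ Nat.card (cen x) := fun h => by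
        obtain ⟨y, hy⟩ := exists_prime_orderOf_dvd_card' p h
        have hyp : IsPElt p (y : Q) := ⟨1, by rw [pow_one, ← hy, ← Subgroup.orderOf_coe, pow_orderOf_eq_one]⟩
        have hy1 : (y : Q) ≠ 1 := fun e => H.hp.ne_one (by rw [← hy, ← Subgroup.orderOf_coe, e, orderOf_one])
        obtain ⟨k, hk⟩ := H.isPElt_of_commute hyp hy1 (mem_cen.2 (mem_cen.1 y.2).symm) (g := x)
        obtain ⟨i, -, hi⟩ := (Nat.dvd_prime_pow H.hp).1 (orderOf_dvd_of_pow_eq_one hk)
        rcases i with _ | i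
        · exact hx1 (orderOf_eq_one_iff.1 (by simpa using hi))
        · exact hpM ((hi ▸ dvd_pow_self p (Nat.succ_ne_zero i) : p ∣ orderOf x).trans
            (Subgroup.orderOf_dvd_natCard M hx))
      have h1 := (cen x).card_mul_index
      rw [H.card_bar, mul_comm U, hmq] at h1
      rw [hmq]
      exact ((H.hp.coprime_iff_not_dvd.2 hc).pow_left m).dvd_of_dvd_mul_left ⟨U, h1⟩
    have heq : idx x = q := le_antisymm hle (Nat.le_of_dvd (Nat.pos_of_ne_zero (idx_ne_zero x)) hdvd)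
    exact ⟨heq, Set.eq_of_subset_of_ncard_le hsub (by
      rw [hMc, CfsgLib.ClassSizes.ncard_conjRange]; exact heq.ge) (Set.toFinite _)⟩
  have hqodd : Odd q := hmq ▸ (H.hp.odd_of_ne_two hp2).pow
  obtain ⟨y, hy⟩ := exists_prime_orderOf_dvd_card' (G := M) 2 (by rw [hcardM]; exact (hqodd.add_one).two_dvd)
  have hy1 : (y : Q) ≠ 1 := fun e => by
    rw [← Subgroup.orderOf_coe, e, orderOf_one] at hy; omega
  obtain ⟨hyq, hyM⟩ := hcls y y.2 hy1
  have hM2 : IsPGroup 2 M := by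
    intro x
    refine ⟨1, Subtype.ext ?_⟩
    by_cases hx1 : (x : Q) = 1
    · simp [hx1]
    obtain ⟨g, hg⟩ : (x : Q) ∈ Set.range fun g : Q => g * (y : Q) * g⁻¹ := hyM ▸ ⟨x.2, hx1⟩
    rw [Subgroup.coe_pow, pow_one, ← hg, conj_pow, ← hy, ← Subgroup.orderOf_coe, pow_orderOf_eq_one]
    group
    rfl
  haveI : Fact (Nat.Prime 2) := ⟨Nat.prime_two⟩
  obtain ⟨k, hk⟩ := IsPGroup.iff_card.1 hM2
  exact hno y (by rwa [Subgroup.orderOf_coe]) hyq k (hcardM ▸ hk)

end Sizes

end CfsgLib.ClassSizesPSL2
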