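import Cfsg.Agent.ClassSizesPSL2.Quotient
import Cfsg.Agent.S0118
import Cfsg.Agent.Eq.Def_Transfer
import Cfsg.Agent.LocalP.ThompsonJ
import Cfsg.Agent.SL2.Elements
import Cfsg.Agent.SylowToolkit.Faithful

/-!
The Sylow `p`-subgroups of the centre quotient are abelian TI subgroups, `q + 1` in number.
-/

set_option autoImplicit false

namespace CfsgLib.ClassSizesPSL2

open CfsgLib.TwoSizes (cen mem_cen IsPElt cen_mul_le center_le_cen)
open CfsgLib.CoprimeLargest

variable {G : Type*} [Group G] [Finite G] {p q U A : ℕ} {T : Set ℕ}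

theorem comm_of_sq {M : Type*} [Group M] {x y : M} (hx : x * x = 1) (hy : y * y = 1)
    (hxy : x * y * (x * y) = 1) : x * y = y * x := by
  have e := inv_eq_of_mul_eq_one_left hxy
  rw [mul_inv_rev, inv_eq_of_mul_eq_one_left hx, inv_eq_of_mul_eq_one_left hy] at e
  exact e.symm

namespace Sizes

variable (H : Sizes G p q U A T)
include H

local notation "Q" => G ⧸ Subgroup.center G

theorem exists_ne_one (P : Sylow p Q) : ∃ x ∈ (P : Subgroup Q), x ≠ 1 := by
  refine (Subgroup.bot_or_exists_ne_one _).resolve_left fun e => ?_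
  have := H.card_sylow P
  rw [e, Subgroup.card_bot] at this
  have := H.q4
  omega

/-- An element of order twice `p` does not exist when `p` is odd. -/
theorem orderOf_ne_two_mul (hp2 : p ≠ 2) (g : Q) : orderOf g ≠ 2 * p := by
  intro hg
  have h2 : orderOf (g ^ 2) = p := by
    rw [orderOf_pow' g two_ne_zero, hg, Nat.gcd_eq_right (dvd_mul_right 2 p)]
    omega
  have hne : g ^ 2 ≠ 1 := fun e => H.hp.ne_one (h2 ▸ orderOf_eq_one_iff.2 e)
  obtain ⟨k, hk⟩ := H.isPElt_of_commute (ybar := g ^ 2) ⟨1, by rw [pow_one, ← h2, pow_orderOf_eq_one]⟩ hne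
    (mem_cen.2 (Commute.self_pow g 2).eq) (g := g)
  have := orderOf_dvd_of_pow_eq_one hk
  rw [hg] at this
  exact hp2 ((Nat.prime_dvd_prime_iff_eq Nat.prime_two H.hp).1
    (Nat.prime_two.dvd_of_dvd_pow ((dvd_mul_right 2 p).trans this))).symm

theorem sl_two_not_involved (hp2 : p ≠ 2) :
    ¬ ∃ (L K : Subgroup Q) (_ : (K.subgroupOf L).Normal),
      Nonempty ((L ⧸ K.subgroupOf L) ≃* Matrix.SpecialLinearGroup (Fin 2) (ZMod p)) := by
  rintro ⟨L, K, hK, ⟨e⟩⟩
  haveI := Fact.mk H.hp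
  have h2 : (2 : ZMod p) ≠ 0 := fun h =>
    hp2 ((Nat.prime_dvd_prime_iff_eq H.hp Nat.prime_two).1 ((ZMod.natCast_eq_zero_iff 2 p).1 (by exact_mod_cast h)))
  set g : Matrix.SpecialLinearGroup (Fin 2) (ZMod p) := -1 * CfsgLib.SL2.u 1
  have hg : orderOf g = 2 * p := by
    have hc : Commute (-1 : Matrix.SpecialLinearGroup (Fin 2) (ZMod p)) (CfsgLib.SL2.u 1) := by
      simp [Commute, SemiconjBy]
    have h1 : orderOf (-1 : Matrix.SpecialLinearGroup (Fin 2) (ZMod p)) = 2 :=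
      (CfsgLib.SL2.orderOf_eq_two_iff h2).2 rfl
    have hu : orderOf (CfsgLib.SL2.u (1 : ZMod p) : Matrix.SpecialLinearGroup (Fin 2) (ZMod p)) = p :=
      CfsgLib.SL2.orderOf_u one_ne_zero
    rw [show g = _ from rfl, hc.orderOf_mul_eq_mul_orderOf_of_coprime, h1, hu]
    rw [h1, hu]
    exact (Nat.coprime_primes Nat.prime_two H.hp).2 (Ne.symm hp2)
  obtain ⟨l, hl⟩ := QuotientGroup.mk_surjective (e.symm g)
  have hdvd : 2 * p ∣ orderOf (l : Q) := by
    have h1 := orderOf_map_dvd (QuotientGroup.mk' (K.subgroupOf L)) l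
    change orderOf (l : L ⧸ K.subgroupOf L) ∣ orderOf l at h1
    rw [hl, MulEquiv.orderOf_eq, hg, ← Subgroup.orderOf_coe] at h1
    exact h1
  exact H.orderOf_ne_two_mul hp2 ((l : Q) ^ (orderOf (l : Q) / (2 * p)))
    (orderOf_pow_orderOf_div (orderOf_pos _).ne' hdvd)

/-- In characteristic two the nontrivial `2`-elements form one class, so they are involutions. -/
theorem sq_of_two (hp2 : p = 2) : ∀ x : Q, IsPElt p x → x * x = 1 := by
  intro x hx
  by_cases hx1 : x = 1
  · rw [hx1, one_mul]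
  obtain ⟨d, hd, hdU⟩ := H.hUq
  have hd1 : d = 1 := hd.resolve_right fun h => h.2 hp2
  rw [hd1, one_mul] at hdU
  have h2 : 2 ∣ orderOf x := by
    obtain ⟨k, hk⟩ := hx
    obtain ⟨i, -, hi⟩ := (Nat.dvd_prime_pow H.hp).1 (orderOf_dvd_of_pow_eq_one hk)
    rcases i with _ | i
    · exact absurd (orderOf_eq_one_iff.1 (by simpa using hi)) hx1
    · rw [hi, hp2]; exact dvd_pow_self 2 (Nat.succ_ne_zero i)
  set t := x ^ (orderOf x / 2)
  have ht : orderOf t = 2 := orderOf_pow_orderOf_div (orderOf_pos _).ne' h2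
  have htp : IsPElt p t := ⟨1, by rw [pow_one, hp2, ← ht, pow_orderOf_eq_one]⟩
  have ht1 : t ≠ 1 := fun e => by rw [e, orderOf_one] at ht; omega
  have hsub : (Set.range fun g : Q => g * t * g⁻¹) ⊆ {g : Q | g ≠ 1 ∧ IsPElt p g} := by
    rintro _ ⟨g, rfl⟩
    exact ⟨fun e => ht1 (conj_eq_one_iff.1 e), pElt_conj htp g⟩
  have hcard : {g : Q | g ≠ 1 ∧ IsPElt p g}.ncard = U := by
    rw [← Nat.card_coe_set_eq, Set.coe_ofPred, H.card_pElts]
    omega
  have heq := Set.eq_of_subset_of_ncard_le hsub (by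
    rw [hcard, CfsgLib.ClassSizes.ncard_conjRange]; exact (H.idx_bar htp ht1).ge) (Set.toFinite _)
  obtain ⟨g, hg⟩ : x ∈ Set.range fun g : Q => g * t * g⁻¹ := heq ▸ ⟨hx1, hx⟩
  rw [← hg, show g * t * g⁻¹ * (g * t * g⁻¹) = g * (t * t) * g⁻¹ by group,
    ← pow_two t, ← ht, pow_orderOf_eq_one]
  group

/-- If all elements of `P` are conjugate into `Z(P)` by elements fixing `P`, then `P` is abelian. -/
theorem sylow_comm (P : Sylow p Q) :
    ∀ x ∈ (P : Subgroup Q), ∀ y ∈ (P : Subgroup Q), x * y = y * x := by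
  haveI := Fact.mk H.hp
  rcases eq_or_ne p 2 with hp2 | hp2
  · -- one class of nontrivial `2`-elements, so all of them are involutions
    have hinv := H.sq_of_two hp2
    intro x hx y hy
    have e1 := hinv x (H.pElt_of_mem P hx)
    have e2 := hinv y (H.pElt_of_mem P hy)
    have e3 := hinv _ (H.pElt_of_mem P (mul_mem hx hy))
    exact CfsgLib.ClassSizesPSL2.comm_of_sq e1 e2 e3
  · set W := Cfsg.centerThompsonOf p (P : Subgroup Q)
    have hWP : W ≤ (P : Subgroup Q) := inf_le_left.trans (CfsgLib.LocalP.thompsonSubgroupOf_le _)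
    -- every element of `P` is conjugate into `Z(P)` by an element normalising `W`
    have hconj : ∀ y ∈ (P : Subgroup Q), y ≠ 1 → ∃ n ∈ Subgroup.normalizer (W : Set Q),
        ∀ x ∈ (P : Subgroup Q), Commute x (n⁻¹ * y * n) := by
      intro y hy hy1
      have hyp := H.pElt_of_mem P hy
      obtain ⟨m, -, hm⟩ := H.hq
      let R : Sylow p Q := Sylow.ofCard (cen y) (by
        rw [H.card_cen_bar hyp hy1, ← H.card_sylow P, P.card_eq_multiplicity])
      obtain ⟨g, hg⟩ := MulAction.exists_smul_eq Q R P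
      have hR : ∀ x ∈ (P : Subgroup Q), g⁻¹ * x * g ∈ cen y := by
        intro x hx
        rw [← hg, Sylow.coe_subgroup_smul, Subgroup.mem_pointwise_smul_iff_inv_smul_mem] at hx
        simp only [MulAut.smul_def, MulAut.inv_apply, MulAut.conj_symm_apply] at hx
        exact hx
      have hyg : g * y * g⁻¹ ∈ (P : Subgroup Q) := by
        have hyR : y ∈ (R : Subgroup Q) := mem_cen.2 rfl
        rw [← hg, Sylow.coe_subgroup_smul, Subgroup.mem_pointwise_smul_iff_inv_smul_mem]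
        simpa [MulAut.smul_def, mul_assoc] using hyR
      obtain ⟨n, hn, hna⟩ := Cfsg.Agent.S0118.result hp2 (H.sl_two_not_involved hp2) P {y}
        (Set.singleton_subset_iff.2 hy) g⁻¹ (by rw [Set.image_singleton, inv_inv]; exact Set.singleton_subset_iff.2 hyg)
      refine ⟨n, hn, fun x hx => ?_⟩
      have e := hna y rfl
      rw [inv_inv] at e
      rw [e]
      show x * (g * y * g⁻¹) = g * y * g⁻¹ * x
      have hc := mem_cen.1 (hR x hx)
      calc x * (g * y * g⁻¹) = g * ((g⁻¹ * x * g) * y) * g⁻¹ := by group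
        _ = g * (y * (g⁻¹ * x * g)) * g⁻¹ := by rw [hc]
        _ = _ := by group
    -- `W` is centralised by `P`
    have hWZ : ∀ w ∈ W, ∀ y ∈ (P : Subgroup Q), w * y = y * w := by
      intro w hw y hy
      by_cases hy1 : y = 1
      · rw [hy1, mul_one, one_mul]
      obtain ⟨n, hn, hc⟩ := hconj y hy hy1
      have hw' : n⁻¹ * w * n ∈ W := (Subgroup.mem_normalizer_iff''.1 hn w).1 hw
      have h := (hc _ (hWP hw')).eq
      calc w * y = n * ((n⁻¹ * w * n) * (n⁻¹ * y * n)) * n⁻¹ := by group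
        _ = n * ((n⁻¹ * y * n) * (n⁻¹ * w * n)) * n⁻¹ := by rw [h]
        _ = _ := by group
    -- `W ≠ 1`
    obtain ⟨w, hw, hw1⟩ : ∃ w ∈ W, w ≠ 1 := by
      obtain ⟨x, hx, hx1⟩ := H.exists_ne_one P
      obtain ⟨n, -, hc⟩ := hconj x hx hx1
      set z0 := n⁻¹ * x * n
      have hz0 : z0 ≠ 1 := fun e => hx1 (by rw [show x = n * z0 * n⁻¹ by simp only [z0]; group, e]; group)
      have hz0p : IsPElt p z0 := by simpa [z0] using pElt_conj (H.pElt_of_mem P hx) n⁻¹
      have hz0P : z0 ∈ (P : Subgroup Q) := by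
        have hle : (P : Subgroup Q) ≤ cen z0 := fun u hu => mem_cen.2 (hc u hu).eq
        have he := Subgroup.eq_of_le_of_card_ge hle (by rw [H.card_cen_bar hz0p hz0, H.card_sylow P])
        rw [he]
        exact mem_cen.2 rfl
      obtain ⟨k, hk⟩ := hz0p
      have hpd : p ∣ orderOf z0 := by
        obtain ⟨i, -, hi⟩ := (Nat.dvd_prime_pow H.hp).1 (orderOf_dvd_of_pow_eq_one hk)
        rcases i with _ | i
        · exact absurd (orderOf_eq_one_iff.1 (by simpa using hi)) hz0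
        · rw [hi]; exact dvd_pow_self p (Nat.succ_ne_zero i)
      set z := z0 ^ (orderOf z0 / p)
      have hz : orderOf z = p := orderOf_pow_orderOf_div (orderOf_pos _).ne' hpd
      have hzP : z ∈ (P : Subgroup Q) := pow_mem hz0P _
      have hzc : ∀ a ∈ (P : Subgroup Q), a * z = z * a := fun a ha => ((hc a ha).pow_right _).eq
      obtain ⟨B, hB⟩ := CfsgLib.LocalP.exists_maxElemIn (p := p) (P : Subgroup Q)
      refine ⟨z, ⟨?_, Subgroup.mem_centralizer_iff.2 fun a ha =>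
        hzc a (CfsgLib.LocalP.thompsonSubgroupOf_le _ ha)⟩, fun e => H.hp.ne_one (by rw [← hz, e, orderOf_one])⟩
      rw [CfsgLib.LocalP.thompsonSubgroupOf_eq_sSup]
      exact (le_sSup hB : B ≤ _) (CfsgLib.LocalP.mem_of_centralizes hB hzP
        (by rw [← hz, pow_orderOf_eq_one]) fun a ha => hzc a (hB.1 ha))
    have hCw : ∀ v ∈ W, v ≠ 1 → (P : Subgroup Q) = cen v := fun v hv hv1 =>
      Subgroup.eq_of_le_of_card_ge (fun u hu => mem_cen.2 (hWZ v hv u hu).symm)
        (by rw [H.card_cen_bar (H.pElt_of_mem P (hWP hv)) hv1, H.card_sylow P])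
    intro x hx y hy
    by_cases hy1 : y = 1
    · rw [hy1, mul_one, one_mul]
    obtain ⟨n, hn, hc⟩ := hconj y hy hy1
    have hw' : n⁻¹ * w * n ∈ W := (Subgroup.mem_normalizer_iff''.1 hn w).1 hw
    have hw1' : n⁻¹ * w * n ≠ 1 := fun e => hw1 (by rw [show w = n * (n⁻¹ * w * n) * n⁻¹ by group, e]; group)
    have hx' : n⁻¹ * x * n ∈ (P : Subgroup Q) := by
      rw [hCw _ hw' hw1']
      refine mem_cen.2 ?_
      calc n⁻¹ * x * n * (n⁻¹ * w * n) = n⁻¹ * (x * w) * n := by group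
        _ = n⁻¹ * (w * x) * n := by rw [hWZ w hw x hx]
        _ = _ := by group
    calc x * y = n * ((n⁻¹ * x * n) * (n⁻¹ * y * n)) * n⁻¹ := by group
      _ = n * ((n⁻¹ * y * n) * (n⁻¹ * x * n)) * n⁻¹ := by rw [(hc _ hx').eq]
      _ = _ := by group

/-- The centraliser of a nontrivial element of a Sylow `p`-subgroup is that subgroup. -/
theorem cen_eq (P : Sylow p Q) {u : Q} (hu : u ∈ (P : Subgroup Q)) (h1 : u ≠ 1) :
    cen u = (P : Subgroup Q) :=
  (Subgroup.eq_of_le_of_card_ge (fun x hx => mem_cen.2 (H.sylow_comm P x hx u hu))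
    (by rw [H.card_cen_bar (H.pElt_of_mem P hu) h1, H.card_sylow P])).symm

theorem sylow_eq_of_mem (P R : Sylow p Q) {u : Q} (hP : u ∈ (P : Subgroup Q))
    (hR : u ∈ (R : Subgroup Q)) (h1 : u ≠ 1) : P = R :=
  Sylow.ext ((H.cen_eq P hP h1).symm.trans (H.cen_eq R hR h1))

theorem card_sylows : Nat.card (Sylow p Q) = q + 1 := by
  classical
  haveI := Fact.mk H.hp
  let f : (Σ P : Sylow p Q, {u : (P : Subgroup Q) // u ≠ 1}) → {g : Q // g ≠ 1 ∧ IsPElt p g} :=
    fun s => ⟨(s.2.1 : Q), fun e => s.2.2 (Subtype.ext e), H.pElt_of_mem s.1 s.2.1.2⟩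
  have hf : Function.Bijective f := by
    constructor
    · rintro ⟨P, ⟨⟨u, hu⟩, hu1⟩⟩ ⟨R, ⟨⟨v, hv⟩, hv1⟩⟩ e
      obtain rfl : u = v := congrArg Subtype.val e
      obtain rfl := H.sylow_eq_of_mem P R hu hv fun e => hu1 (Subtype.ext e)
      rfl
    · rintro ⟨g, hg1, hg⟩
      have hpg : IsPGroup p (Subgroup.zpowers g) := by
        obtain ⟨k, hk⟩ := hg
        refine fun x => ⟨k, Subtype.ext ?_⟩
        obtain ⟨i, hi⟩ := Subgroup.mem_zpowers_iff.1 x.2
        rw [Subgroup.coe_pow, OneMemClass.coe_one, ← hi, ← zpow_natCast, ← zpow_mul, mul_comm,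
          zpow_mul, zpow_natCast, hk, one_zpow]
      obtain ⟨P, hP⟩ := hpg.exists_le_sylow
      exact ⟨⟨P, ⟨⟨g, hP (Subgroup.mem_zpowers g)⟩, fun e => hg1 (congrArg Subtype.val e)⟩⟩, rfl⟩
  have h := Nat.card_congr (Equiv.ofBijective f hf)
  haveI := Fintype.ofFinite (Sylow p Q)
  rw [Nat.card_sigma, H.card_pElts] at h
  have hfib : ∀ P : Sylow p Q, Nat.card {u : (P : Subgroup Q) // u ≠ 1} = q - 1 := fun P => by
    haveI := Fintype.ofFinite (P : Subgroup Q)
    rw [Nat.card_eq_fintype_card, Fintype.card_subtype_compl, Fintype.card_subtype_eq,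
      ← Nat.card_eq_fintype_card, H.card_sylow P]
  simp only [hfib, Finset.sum_const, Finset.card_univ, smul_eq_mul, ← Nat.card_eq_fintype_card] at h
  have hq := H.q4
  refine Nat.eq_of_mul_eq_mul_right (show 0 < q - 1 by omega) ?_
  rw [h, ← Nat.sq_sub_sq, one_pow]

end Sizes

end CfsgLib.ClassSizesPSL2
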